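import Cfsg.Agent.H26.SE

set_option autoImplicit false

namespace Cfsg.Agent.H26

open Subgroup

variable {G : Type*} [Group G] [Finite G]

section SE

variable {H : Subgroup G} (hH : Cfsg.IsStronglyEmbedded H)
include hH

/-- the canonical involution swapping: for `a ∈ H`, `b` an involution with `g⁻¹ b g ∈ H`, `g ∉ H` -/
theorem se_gamma {g a b : G} (hg : g ∉ H) (ha : orderOf a = 2) (haH : a ∈ H)
    (hb : orderOf b = 2) (hbH : g⁻¹ * b * g ∈ H) :
    ∃ c : G, orderOf c = 2 ∧ c * a * c⁻¹ = b ∧ c⁻¹ * g ∈ H ∧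
      c = a * (a * b) ^ ((orderOf (a * b) + 1) / 2) := by
  have hbH' : b ∉ H := fun h => hg (se_mem_of_inv_mem_inter hH hb h hbH)
  have hodd := se_odd_orderOf_mul hH ha haH hb hbH'
  obtain ⟨h1, h2⟩ := dih_conj ha hb hodd
  refine ⟨_, h1, h2, ?_, rfl⟩
  set c := a * (a * b) ^ ((orderOf (a * b) + 1) / 2) with hc
  have h3 : (g⁻¹ * c) * a * (g⁻¹ * c)⁻¹ ∈ H := by
    have : (g⁻¹ * c) * a * (g⁻¹ * c)⁻¹ = g⁻¹ * (c * a * c⁻¹) * g := by group
    rw [this, h2]; exact hbH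
  have h4 : (g⁻¹ * c)⁻¹ ∈ H := by
    apply se_mem_of_inv_mem_inter hH ha haH
    rw [inv_inv]; exact h3
  have : c⁻¹ * g = (g⁻¹ * c)⁻¹ := by group
  rw [this]; exact h4

theorem se_exists_inv : ∃ t : G, orderOf t = 2 ∧ t ∈ H := by
  obtain ⟨t, ht, hto⟩ := exists_inv_of_even_card H hH.2.1
  exact ⟨t, hto, ht⟩

/-- Counting lemma: for `g ∉ H`, the number of involutions `i` with `i⁻¹ g ∈ H` equals the number
of involutions of `H`. -/
theorem se_card_swap {g : G} (hg : g ∉ H) :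
    Nat.card {i : G // orderOf i = 2 ∧ i⁻¹ * g ∈ H} = Nat.card {t : G // orderOf t = 2 ∧ t ∈ H} := by
  classical
  -- B ≃ A
  let eBA : {t : G // orderOf t = 2 ∧ g⁻¹ * t * g ∈ H} ≃ {t : G // orderOf t = 2 ∧ t ∈ H} :=
    { toFun := fun t => ⟨g⁻¹ * t.1 * g, by
        have := orderOf_conj_eq g⁻¹ t.1
        rw [inv_inv] at this
        rw [this]; exact t.2.1, t.2.2⟩
      invFun := fun t => ⟨g * t.1 * g⁻¹, by rw [orderOf_conj_eq]; exact t.2.1, by
        have : g⁻¹ * (g * t.1 * g⁻¹) * g = t.1 := by group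
        rw [this]; exact t.2.2⟩
      left_inv := fun t => by
        apply Subtype.ext
        show g * (g⁻¹ * t.1 * g) * g⁻¹ = t.1
        group
      right_inv := fun t => by
        apply Subtype.ext
        show g⁻¹ * (g * t.1 * g⁻¹) * g = t.1
        group }
  -- C × A ≃ A × B
  have key : ∀ (a : {t : G // orderOf t = 2 ∧ t ∈ H}) (b : {t : G // orderOf t = 2 ∧ g⁻¹ * t * g ∈ H}),
      ∃ c : G, orderOf c = 2 ∧ c * a.1 * c⁻¹ = b.1 ∧ c⁻¹ * g ∈ H ∧
        c = a.1 * (a.1 * b.1) ^ ((orderOf (a.1 * b.1) + 1) / 2) :=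
    fun a b => se_gamma hH hg a.2.1 a.2.2 b.2.1 b.2.2
  let e : {i : G // orderOf i = 2 ∧ i⁻¹ * g ∈ H} × {t : G // orderOf t = 2 ∧ t ∈ H} ≃
      {t : G // orderOf t = 2 ∧ t ∈ H} × {t : G // orderOf t = 2 ∧ g⁻¹ * t * g ∈ H} :=
    { toFun := fun p => (p.2, ⟨p.1.1 * p.2.1 * p.1.1⁻¹, by rw [orderOf_conj_eq]; exact p.2.2.1, by
        have : g⁻¹ * (p.1.1 * p.2.1 * p.1.1⁻¹) * g = (p.1.1⁻¹ * g)⁻¹ * p.2.1 * (p.1.1⁻¹ * g) := by
          group
        rw [this]
        exact H.mul_mem (H.mul_mem (H.inv_mem p.1.2.2) p.2.2.2) p.1.2.2⟩)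
      invFun := fun p => (⟨p.1.1 * (p.1.1 * p.2.1) ^ ((orderOf (p.1.1 * p.2.1) + 1) / 2), by
        obtain ⟨c, hc1, hc2, hc3, hc4⟩ := key p.1 p.2
        rw [← hc4]; exact ⟨hc1, hc3⟩⟩, p.1)
      left_inv := fun p => by
        obtain ⟨⟨c, hc, hcg⟩, ⟨a, ha, haH⟩⟩ := p
        apply Prod.ext
        · apply Subtype.ext
          show a * (a * (c * a * c⁻¹)) ^ ((orderOf (a * (c * a * c⁻¹)) + 1) / 2) = c
          have hcH : c ∉ H := by
            intro h
            apply hg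
            have := H.mul_mem h hcg
            simpa using this
          have hodd := se_odd_orderOf_mul hH ha haH hc hcH
          have hcinv : c⁻¹ = c := inv_inv_eq hc
          have hsq : a * (c * a * c⁻¹) = (a * c) ^ 2 := by
            rw [hcinv, pow_two]; group
          rw [hsq]
          have hord : orderOf ((a * c) ^ 2) = orderOf (a * c) := by
            rw [orderOf_pow]
            have : Nat.gcd (orderOf (a * c)) 2 = 1 := by
              rw [Nat.gcd_comm]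
              exact (Nat.coprime_two_left.mpr hodd)
            rw [this, Nat.div_one]
          rw [hord, ← pow_mul]
          obtain ⟨k, hk⟩ := hodd
          have : 2 * ((orderOf (a * c) + 1) / 2) = orderOf (a * c) + 1 := by omega
          rw [this, pow_succ, pow_orderOf_eq_one, one_mul, ← mul_assoc, inv_sq ha, one_mul]
        · rfl
      right_inv := fun p => by
        obtain ⟨a, b⟩ := p
        apply Prod.ext
        · rfl
        · apply Subtype.ext
          obtain ⟨c, hc1, hc2, hc3, hc4⟩ := key a b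
          show (a.1 * (a.1 * b.1) ^ ((orderOf (a.1 * b.1) + 1) / 2)) * a.1 *
            (a.1 * (a.1 * b.1) ^ ((orderOf (a.1 * b.1) + 1) / 2))⁻¹ = b.1
          rw [← hc4]; exact hc2 }
  have h1 := Nat.card_congr e
  rw [Nat.card_prod, Nat.card_prod, Nat.card_congr eBA] at h1
  have hpos : 0 < Nat.card {t : G // orderOf t = 2 ∧ t ∈ H} := by
    obtain ⟨t, ht1, ht2⟩ := se_exists_inv hH
    have : Nonempty {t : G // orderOf t = 2 ∧ t ∈ H} := ⟨⟨t, ht1, ht2⟩⟩
    exact Nat.card_pos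
  exact Nat.eq_of_mul_eq_mul_right hpos h1

/-- `D = H ∩ uHu⁻¹` is transitive on the involutions of `H`. -/
theorem se_D_trans {u s t : G} (hu : orderOf u = 2) (huH : u ∉ H) (hs : orderOf s = 2) (hsH : s ∈ H)
    (ht : orderOf t = 2) (htH : t ∈ H) :
    ∃ d ∈ (H ⊓ H.map (MulAut.conj u).toMonoidHom), d * s * d⁻¹ = t := by
  have huinv : u⁻¹ = u := inv_inv_eq hu
  have hb : orderOf (u * t * u⁻¹) = 2 := by rw [orderOf_conj_eq]; exact ht
  have hbH : u⁻¹ * (u * t * u⁻¹) * u ∈ H := by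
    have : u⁻¹ * (u * t * u⁻¹) * u = t := by group
    rw [this]; exact htH
  obtain ⟨c, hc1, hc2, hc3, -⟩ := se_gamma hH huH hs hsH hb hbH
  have hcinv : c⁻¹ = c := inv_inv_eq hc1
  refine ⟨u⁻¹ * c, Subgroup.mem_inf.mpr ⟨?_, ?_⟩, ?_⟩
  · have : u⁻¹ * c = (c⁻¹ * u)⁻¹ := by group
    rw [this]; exact H.inv_mem hc3
  · rw [mem_map_conj_iff]
    have : u⁻¹ * (u⁻¹ * c) * u = c⁻¹ * u := by
      rw [huinv, hcinv, ← mul_assoc, inv_sq hu, one_mul]
    rw [this]; exact hc3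
  · calc u⁻¹ * c * s * (u⁻¹ * c)⁻¹ = u⁻¹ * (c * s * c⁻¹) * u := by group
      _ = t := by rw [hc2]; group

/-- all involutions are conjugate -/
theorem se_all_conj {u s : G} (hu : orderOf u = 2) (huH : u ∉ H) (hs : orderOf s = 2) (hsH : s ∈ H)
    {a : G} (ha : orderOf a = 2) : IsConj s a := by
  by_cases haH : a ∈ H
  · -- a ~ u ~ s
    have h1 := dih_conj ha hu (se_odd_orderOf_mul hH ha haH hu huH)
    have h2 := dih_conj hs hu (se_odd_orderOf_mul hH hs hsH hu huH)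
    have c1 : IsConj a u := isConj_iff.mpr ⟨_, h1.2⟩
    have c2 : IsConj s u := isConj_iff.mpr ⟨_, h2.2⟩
    exact c2.trans c1.symm
  · have h1 := dih_conj hs ha (se_odd_orderOf_mul hH hs hsH ha haH)
    exact isConj_iff.mpr ⟨_, h1.2⟩

end SE

end Cfsg.Agent.H26
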