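import Cfsg.Agent.H26.CIT2

set_option autoImplicit false

namespace Cfsg.Agent.H26

open Subgroup

variable {G : Type*} [Group G] [Finite G]

section CIT

variable (T : Sylow 2 G) (hnc : ¬ IsCyclic (T : Subgroup G)) (hnn : ¬ (T : Subgroup G).Normal)
  (hC : CITHyp G)
include hnc hnn hC

theorem cit_Dg_exists_ne {g : G} (hg : g ∉ NT T) : ∃ d ∈ Dg (NT T) g, d ≠ 1 := by
  by_contra h
  simp only [not_exists, not_and, not_not] at h
  have hbot : Dg (NT T) g = ⊥ := (Subgroup.eq_bot_iff_forall _).mpr h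
  have h1 : Nat.card (Dg (NT T) g) = 1 := Subgroup.card_eq_one.mpr hbot
  have h2 := cit_Dg_card T hnc hnn hC hg
  have hT2 : Nat.card (T : Subgroup G) = 2 := by omega
  have : Fact (Nat.Prime 2) := ⟨Nat.prime_two⟩
  exact hnc (isCyclic_of_prime_card hT2)

theorem cit_comm_mem_T {g h d : G} (hg : g ∉ NT T) (hh : h ∈ NT T) (hd : d ∈ Dg (NT T) g) :
    h * d * h⁻¹ * d⁻¹ ∈ (T : Subgroup G) := by
  obtain ⟨d₀, hd₀, t₀, ht₀, rfl⟩ := cit_N_eq_DgT T hnc hnn hC hg hh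
  have hcomm : d₀⁻¹ * d⁻¹ = d⁻¹ * d₀⁻¹ := by
    have := cit_Dg_comm T hnc hnn hC hg hd hd₀
    have := congrArg (·⁻¹) this
    simpa using this
  have e : d₀ * t₀ * d * (d₀ * t₀)⁻¹ * d⁻¹ = d₀ * (t₀ * (d * t₀⁻¹ * d⁻¹)) * d₀⁻¹ := by
    rw [mul_inv_rev]
    calc d₀ * t₀ * d * (t₀⁻¹ * d₀⁻¹) * d⁻¹ = d₀ * t₀ * d * t₀⁻¹ * (d₀⁻¹ * d⁻¹) := by group
      _ = d₀ * t₀ * d * t₀⁻¹ * (d⁻¹ * d₀⁻¹) := by rw [hcomm]
      _ = d₀ * (t₀ * (d * t₀⁻¹ * d⁻¹)) * d₀⁻¹ := by group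
  rw [e]
  have hdN : d ∈ NT T := ((mem_Dg _ _ _).mp hd).1
  have hd₀N : d₀ ∈ NT T := ((mem_Dg _ _ _).mp hd₀).1
  have h1 : d * t₀⁻¹ * d⁻¹ ∈ (T : Subgroup G) :=
    (Subgroup.mem_normalizer_iff.mp hdN t₀⁻¹).mp ((T : Subgroup G).inv_mem ht₀)
  exact (Subgroup.mem_normalizer_iff.mp hd₀N _).mp ((T : Subgroup G).mul_mem ht₀ h1)

theorem cit_centralizer_in_N {g h d : G} (hg : g ∉ NT T) (hd : d ∈ Dg (NT T) g) (hd1 : d ≠ 1)
    (hh : h ∈ NT T) (hc : h * d = d * h) : h ∈ Dg (NT T) g := by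
  obtain ⟨d₀, hd₀, t₀, ht₀, rfl⟩ := cit_N_eq_DgT T hnc hnn hC hg hh
  have hcomm : d₀ * d = d * d₀ := cit_Dg_comm T hnc hnn hC hg hd₀ hd
  have ht : d * t₀ = t₀ * d := by
    have h1 : d₀ * (t₀ * d) = d₀ * (d * t₀) := by
      calc d₀ * (t₀ * d) = d₀ * t₀ * d := by group
        _ = d * (d₀ * t₀) := hc
        _ = (d * d₀) * t₀ := by group
        _ = (d₀ * d) * t₀ := by rw [hcomm]
        _ = d₀ * (d * t₀) := by group
    exact (mul_left_cancel h1).symm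
  by_cases ht1 : t₀ = 1
  · rw [ht1, mul_one]; exact hd₀
  · exact absurd (cit_Dg_free T hnc hnn hC hg hd ht₀ ht1 ht) hd1

theorem cit_Dg_eq_of_common {g g' d : G} (hg : g ∉ NT T) (hg' : g' ∉ NT T)
    (hd : d ∈ Dg (NT T) g) (hd' : d ∈ Dg (NT T) g') (hd1 : d ≠ 1) :
    Dg (NT T) g' = Dg (NT T) g := by
  apply Subgroup.eq_of_le_of_card_ge
  · intro e he
    exact cit_centralizer_in_N T hnc hnn hC hg hd hd1 ((mem_Dg _ _ _).mp he).1
      (cit_Dg_comm T hnc hnn hC hg' he hd')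
  · have h1 := cit_Dg_card T hnc hnn hC hg
    have h2 := cit_Dg_card T hnc hnn hC hg'
    omega

theorem cit_Dg_eq_of_le {g g' : G} (hg : g ∉ NT T) (hg' : g' ∉ NT T)
    (hle : Dg (NT T) g ≤ Dg (NT T) g') : Dg (NT T) g = Dg (NT T) g' := by
  apply Subgroup.eq_of_le_of_card_ge hle
  have h1 := cit_Dg_card T hnc hnn hC hg
  have h2 := cit_Dg_card T hnc hnn hC hg'
  omega

/-- `D = N ∩ gNg⁻¹` fixes only the cosets `N` and `gN`. -/
theorem cit_fix {g g' : G} (hg : g ∉ NT T) (hfix : ∀ d ∈ Dg (NT T) g, g'⁻¹ * d * g' ∈ NT T) :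
    g' ∈ NT T ∨ g⁻¹ * g' ∈ NT T := by
  by_contra hcon
  simp only [not_or] at hcon
  obtain ⟨hg', hgg'⟩ := hcon
  have hle : Dg (NT T) g ≤ Dg (NT T) g' := fun d hd =>
    (mem_Dg _ _ _).mpr ⟨((mem_Dg _ _ _).mp hd).1, hfix d hd⟩
  have heq : Dg (NT T) g = Dg (NT T) g' := cit_Dg_eq_of_le T hnc hnn hC hg hg' hle
  obtain ⟨u, hu, huN, hug⟩ := cit_exists_inv_coset T hnc hnn hC hg
  obtain ⟨u', hu', hu'N, hu'g⟩ := cit_exists_inv_coset T hnc hnn hC hg'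
  have hD1 : Dg (NT T) g = Dg (NT T) u :=
    Dg_congr _ (by have := (NT T).inv_mem hug; simpa using this)
  have hD2 : Dg (NT T) g' = Dg (NT T) u' :=
    Dg_congr _ (by have := (NT T).inv_mem hu'g; simpa using this)
  have huinv : u⁻¹ = u := inv_inv_eq hu
  have hwN : u * u' ∉ NT T := by
    intro hwN
    apply hgg'
    have : g⁻¹ * g' = (u⁻¹ * g)⁻¹ * (u * u') * (u'⁻¹ * g') := by
      calc g⁻¹ * g' = (u⁻¹ * g)⁻¹ * (u⁻¹ * u') * (u'⁻¹ * g') := by group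
        _ = (u⁻¹ * g)⁻¹ * (u * u') * (u'⁻¹ * g') := by rw [huinv]
    rw [this]
    exact (NT T).mul_mem ((NT T).mul_mem ((NT T).inv_mem hug) hwN) hu'g
  have hcent : ∀ d ∈ Dg (NT T) g, (u * u') * d * (u * u')⁻¹ = d := by
    intro d hd
    have hd2 : d ∈ Dg (NT T) u' := by rw [← hD2, ← heq]; exact hd
    have hd1 : d⁻¹ ∈ Dg (NT T) u := by rw [← hD1]; exact (Dg (NT T) g).inv_mem hd
    have h1 : u' * d * u'⁻¹ = d⁻¹ := cit_D_inverted T hnc hnn hC hu' hu'N hd2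
    have h2 : u * d⁻¹ * u⁻¹ = d := by
      have := cit_D_inverted T hnc hnn hC hu huN hd1
      rw [inv_inv] at this
      exact this
    calc (u * u') * d * (u * u')⁻¹ = u * (u' * d * u'⁻¹) * u⁻¹ := by group
      _ = d := by rw [h1, h2]
  have hle3 : Dg (NT T) g ≤ Dg (NT T) (u * u') := fun d hd => by
    refine (mem_Dg _ _ _).mpr ⟨((mem_Dg _ _ _).mp hd).1, ?_⟩
    have h1 := hcent d hd
    have : (u * u')⁻¹ * d * (u * u') = d := by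
      calc (u * u')⁻¹ * d * (u * u') = (u * u')⁻¹ * ((u * u') * d * (u * u')⁻¹) * (u * u') := by
            rw [h1]
        _ = d := by group
    rw [this]; exact ((mem_Dg _ _ _).mp hd).1
  have heq3 : Dg (NT T) g = Dg (NT T) (u * u') := cit_Dg_eq_of_le T hnc hnn hC hg hwN hle3
  obtain ⟨u₃, hu₃, hu₃N, hu₃w⟩ := cit_exists_inv_coset T hnc hnn hC hwN
  have hD3 : Dg (NT T) (u * u') = Dg (NT T) u₃ :=
    Dg_congr _ (by have := (NT T).inv_mem hu₃w; simpa using this)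
  have hall : ∀ d ∈ Dg (NT T) g, d = 1 := by
    intro d hd
    have hd3 : d ∈ Dg (NT T) u₃ := by rw [← hD3, ← heq3]; exact hd
    have h3 : u₃ * d * u₃⁻¹ = d⁻¹ := cit_D_inverted T hnc hnn hC hu₃ hu₃N hd3
    have h4 : (u₃⁻¹ * (u * u')) * d * (u₃⁻¹ * (u * u'))⁻¹ = d⁻¹ := by
      calc (u₃⁻¹ * (u * u')) * d * (u₃⁻¹ * (u * u'))⁻¹
          = u₃⁻¹ * ((u * u') * d * (u * u')⁻¹) * u₃ := by group
        _ = u₃⁻¹ * d * u₃ := by rw [hcent d hd]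
        _ = u₃ * d * u₃⁻¹ := by rw [inv_inv_eq hu₃]
        _ = d⁻¹ := h3
    have h5 := cit_comm_mem_T T hnc hnn hC hg hu₃w hd
    rw [h4] at h5
    have h6 : d⁻¹ * d⁻¹ = 1 := cit_Dg_inter_T T hnc hnn hC hg
      ((Dg (NT T) g).mul_mem ((Dg (NT T) g).inv_mem hd) ((Dg (NT T) g).inv_mem hd)) h5
    apply cit_Dg_eq_one_of_sq T hnc hnn hC hg hd
    have := congrArg (·⁻¹) h6
    simpa using this
  obtain ⟨d, hd, hd1⟩ := cit_Dg_exists_ne T hnc hnn hC hg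
  exact hd1 (hall d hd)

theorem cit_normalizer_in_N {g n : G} (hg : g ∉ NT T) (hn : n ∈ NT T)
    (hnD : n ∈ Subgroup.normalizer ((Dg (NT T) g : Subgroup G) : Set G)) : n ∈ Dg (NT T) g := by
  obtain ⟨d₀, hd₀, t₀, ht₀, rfl⟩ := cit_N_eq_DgT T hnc hnn hC hg hn
  have ht₀D : t₀ ∈ Subgroup.normalizer ((Dg (NT T) g : Subgroup G) : Set G) := by
    have h1 : d₀⁻¹ ∈ Subgroup.normalizer ((Dg (NT T) g : Subgroup G) : Set G) :=
      Subgroup.inv_mem _ (Subgroup.le_normalizer hd₀)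
    have := Subgroup.mul_mem _ h1 hnD
    simpa using this
  obtain ⟨d, hd, hd1⟩ := cit_Dg_exists_ne T hnc hnn hC hg
  have h1 : t₀ * d * t₀⁻¹ ∈ Dg (NT T) g := (Subgroup.mem_normalizer_iff.mp ht₀D d).mp hd
  have h2 : t₀ * d * t₀⁻¹ * d⁻¹ ∈ (T : Subgroup G) :=
    cit_comm_mem_T T hnc hnn hC hg (Subgroup.le_normalizer ht₀) hd
  have h3 : t₀ * d * t₀⁻¹ * d⁻¹ = 1 := cit_Dg_inter_T T hnc hnn hC hg
    ((Dg (NT T) g).mul_mem h1 ((Dg (NT T) g).inv_mem hd)) h2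
  have h4 : d * t₀ = t₀ * d := by
    have := congrArg (fun x => x * d * t₀) h3
    simp only [one_mul] at this
    rw [← this]; group
  by_cases ht1 : t₀ = 1
  · rw [ht1, mul_one]; exact hd₀
  · exact absurd (cit_Dg_free T hnc hnn hC hg hd ht₀ ht1 h4) hd1

omit [Finite G] hnc hnn hC in
theorem cit_u_mem_normalizer {u : G} (hu : orderOf u = 2) :
    u ∈ Subgroup.normalizer ((Dg (NT T) u : Subgroup G) : Set G) := by
  rw [Subgroup.mem_normalizer_iff]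
  intro d
  constructor
  · exact fun hd => Dg_conj_mem _ hu hd
  · intro hd
    have := Dg_conj_mem _ hu hd
    have e : u * (u * d * u⁻¹) * u⁻¹ = d := by
      calc u * (u * d * u⁻¹) * u⁻¹ = (u * u) * d * (u⁻¹ * u⁻¹) := by group
        _ = d := by rw [inv_inv_eq hu, inv_sq hu, one_mul, mul_one]
    rw [e] at this
    exact this

theorem cit_normalizer_D {u : G} (hu : orderOf u = 2) (huN : u ∉ NT T) :
    Subgroup.normalizer ((Dg (NT T) u : Subgroup G) : Set G) = Dg (NT T) u ⊔ Subgroup.zpowers u := by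
  have hu_norm := cit_u_mem_normalizer T hu
  apply le_antisymm
  · intro n hn
    have hfix : ∀ d ∈ Dg (NT T) u, n⁻¹ * d * n ∈ NT T := by
      intro d hd
      have hn' : n⁻¹ ∈ Subgroup.normalizer ((Dg (NT T) u : Subgroup G) : Set G) :=
        Subgroup.inv_mem _ hn
      have := (Subgroup.mem_normalizer_iff.mp hn' d).mp hd
      rw [inv_inv] at this
      exact ((mem_Dg _ _ _).mp this).1
    rcases cit_fix T hnc hnn hC huN hfix with h | h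
    · exact Subgroup.mem_sup_left (cit_normalizer_in_N T hnc hnn hC huN h hn)
    · have hun : u⁻¹ * n ∈ Subgroup.normalizer ((Dg (NT T) u : Subgroup G) : Set G) :=
        Subgroup.mul_mem _ (Subgroup.inv_mem _ hu_norm) hn
      have h1 : u⁻¹ * n ∈ Dg (NT T) u := cit_normalizer_in_N T hnc hnn hC huN h hun
      have e : n = u * (u⁻¹ * n) := by group
      rw [e]
      exact Subgroup.mul_mem _ (Subgroup.mem_sup_right (Subgroup.mem_zpowers u))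
        (Subgroup.mem_sup_left h1)
  · apply sup_le
    · exact Subgroup.le_normalizer
    · rw [Subgroup.zpowers_le]; exact hu_norm

/-- `T` is transitive on the cosets other than `N`. -/
theorem cit_T_trans {g₁ g₂ : G} (hg₁ : g₁ ∉ NT T) (hg₂ : g₂ ∉ NT T) :
    ∃ s ∈ (T : Subgroup G), (s * g₁)⁻¹ * g₂ ∈ NT T := by
  obtain ⟨d₂, hd₂, hd₂1⟩ := cit_Dg_exists_ne T hnc hnn hC hg₂
  obtain ⟨d₁, hd₁, t, ht, hdt⟩ := cit_N_eq_DgT T hnc hnn hC hg₁ ((mem_Dg _ _ _).mp hd₂).1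
  have hd₁1 : d₁ ≠ 1 := by
    intro h
    rw [h, one_mul] at hdt
    rw [hdt] at hd₂ hd₂1
    exact hd₂1 (cit_Dg_inter_T T hnc hnn hC hg₂ hd₂ ht)
  have hd₁N : d₁ ∈ NT T := ((mem_Dg _ _ _).mp hd₁).1
  have hnormal : ∀ s ∈ (T : Subgroup G), d₁⁻¹ * s * d₁ ∈ (T : Subgroup G) := by
    intro s hs
    have := (Subgroup.mem_normalizer_iff.mp ((NT T).inv_mem hd₁N) s).mp hs
    rw [inv_inv] at this
    exact this
  let ψ : ↥(T : Subgroup G) → ↥(T : Subgroup G) := fun s =>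
    ⟨d₁⁻¹ * s * d₁ * (s : G)⁻¹, (T : Subgroup G).mul_mem (hnormal s s.2)
      ((T : Subgroup G).inv_mem s.2)⟩
  have hinj : Function.Injective ψ := by
    intro s s' h
    have h' : d₁⁻¹ * s * d₁ * (s : G)⁻¹ = d₁⁻¹ * s' * d₁ * (s' : G)⁻¹ := congrArg Subtype.val h
    -- r = s'⁻¹ s commutes with d₁
    have hr : (s' : G)⁻¹ * s ∈ (T : Subgroup G) :=
      (T : Subgroup G).mul_mem ((T : Subgroup G).inv_mem s'.2) s.2
    have hc1 : (d₁⁻¹ * s' * d₁)⁻¹ * (d₁⁻¹ * s * d₁) = (s' : G)⁻¹ * s := by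
      have hcomm : (d₁⁻¹ * s * d₁) * (s' : G)⁻¹ = (s' : G)⁻¹ * (d₁⁻¹ * s * d₁) :=
        cit_T_comm T hnc hC (hnormal s s.2) ((T : Subgroup G).inv_mem s'.2)
      calc (d₁⁻¹ * s' * d₁)⁻¹ * (d₁⁻¹ * s * d₁)
          = (d₁⁻¹ * s' * d₁)⁻¹ * (d₁⁻¹ * s * d₁ * (s : G)⁻¹) * s := by group
        _ = (d₁⁻¹ * s' * d₁)⁻¹ * (d₁⁻¹ * s' * d₁ * (s' : G)⁻¹) * s := by rw [h']
        _ = (s' : G)⁻¹ * s := by group
    have hc2 : d₁ * ((s' : G)⁻¹ * s) = ((s' : G)⁻¹ * s) * d₁ := by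
      have : (d₁⁻¹ * s' * d₁)⁻¹ * (d₁⁻¹ * s * d₁) = d₁⁻¹ * ((s' : G)⁻¹ * s) * d₁ := by group
      rw [this] at hc1
      calc d₁ * ((s' : G)⁻¹ * s) = d₁ * (d₁⁻¹ * ((s' : G)⁻¹ * s) * d₁) := by rw [hc1]
        _ = ((s' : G)⁻¹ * s) * d₁ := by group
    by_contra hne
    have hr1 : (s' : G)⁻¹ * s ≠ 1 := by
      intro h1
      apply hne
      apply Subtype.ext
      exact (inv_mul_eq_one.mp h1).symm
    exact hd₁1 (cit_Dg_free T hnc hnn hC hg₁ hd₁ hr hr1 hc2)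
  obtain ⟨s, hs⟩ := Finite.surjective_of_injective hinj ⟨t, ht⟩
  have hs' : d₁⁻¹ * s * d₁ * (s : G)⁻¹ = t := congrArg Subtype.val hs
  have hconj : (s : G) * d₁ * (s : G)⁻¹ = d₂ := by
    rw [hdt, ← hs']; group
  have hsN : (s : G) ∈ NT T := Subgroup.le_normalizer s.2
  have hsg₁ : (s : G) * g₁ ∉ NT T := by
    intro h
    apply hg₁
    have := (NT T).mul_mem ((NT T).inv_mem hsN) h
    simpa using this
  have hd₂' : d₂ ∈ Dg (NT T) ((s : G) * g₁) := by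
    rw [mem_Dg]
    refine ⟨((mem_Dg _ _ _).mp hd₂).1, ?_⟩
    have : ((s : G) * g₁)⁻¹ * d₂ * ((s : G) * g₁) = g₁⁻¹ * d₁ * g₁ := by
      rw [← hconj]; group
    rw [this]; exact ((mem_Dg _ _ _).mp hd₁).2
  have heq := cit_Dg_eq_of_common T hnc hnn hC hsg₁ hg₂ hd₂' hd₂ hd₂1
  have hfix : ∀ d ∈ Dg (NT T) ((s : G) * g₁), g₂⁻¹ * d * g₂ ∈ NT T := by
    intro d hd
    rw [← heq] at hd
    exact ((mem_Dg _ _ _).mp hd).2
  rcases cit_fix T hnc hnn hC hsg₁ hfix with h | h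
  · exact absurd h hg₂
  · exact ⟨s, s.2, h⟩

/-- an element fixing three distinct cosets is trivial -/
theorem cit_three_fix {g₂ g₃ e : G} (hg₂ : g₂ ∉ NT T) (hg₃ : g₃ ∉ NT T)
    (h23 : g₂⁻¹ * g₃ ∉ NT T) (he1 : e ∈ NT T) (he2 : g₂⁻¹ * e * g₂ ∈ NT T)
    (he3 : g₃⁻¹ * e * g₃ ∈ NT T) : e = 1 := by
  by_contra hne
  have hd2 : e ∈ Dg (NT T) g₂ := (mem_Dg _ _ _).mpr ⟨he1, he2⟩
  have hd3 : e ∈ Dg (NT T) g₃ := (mem_Dg _ _ _).mpr ⟨he1, he3⟩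
  have heq := cit_Dg_eq_of_common T hnc hnn hC hg₂ hg₃ hd2 hd3 hne
  have hfix : ∀ d ∈ Dg (NT T) g₂, g₃⁻¹ * d * g₃ ∈ NT T := by
    intro d hd
    rw [← heq] at hd
    exact ((mem_Dg _ _ _).mp hd).2
  rcases cit_fix T hnc hnn hC hg₂ hfix with h | h
  · exact hg₃ h
  · exact h23 h

end CIT

end Cfsg.Agent.H26
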