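import Cfsg.Agent.H26.SE

set_option autoImplicit false

namespace Cfsg.Agent.H26

open Subgroup

variable {G : Type*} [Group G] [Finite G]

/-- The standing hypothesis of S1226-S1230: centralizers of involutions are elementary abelian. -/
def CITHyp (G : Type*) [Group G] : Prop :=
  ∀ t : G, orderOf t = 2 → IsMulCommutative (Subgroup.centralizer ({t} : Set G)) ∧
    ∀ c ∈ Subgroup.centralizer ({t} : Set G), c ^ 2 = 1

theorem cit_exists_central_inv (T : Sylow 2 G) (hnc : ¬ IsCyclic (T : Subgroup G)) :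
    ∃ t₀ : G, t₀ ∈ (T : Subgroup G) ∧ orderOf t₀ = 2 ∧ ∀ a ∈ (T : Subgroup G), a * t₀ = t₀ * a := by
  have : Fact (Nat.Prime 2) := ⟨Nat.prime_two⟩
  have hnt : Nontrivial (T : Subgroup G) := by
    by_contra h
    rw [not_nontrivial_iff_subsingleton] at h
    exact hnc inferInstance
  have hcn : Nontrivial (Subgroup.center (T : Subgroup G)) := T.isPGroup'.center_nontrivial
  have hpc : IsPGroup 2 (Subgroup.center (T : Subgroup G)) := T.isPGroup'.to_subgroup _
  obtain ⟨n, hn, hcard⟩ := hpc.nontrivial_iff_card.mp hcn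
  have heven : Even (Nat.card (Subgroup.center (T : Subgroup G))) := by
    rw [hcard]; exact (Nat.even_pow.mpr ⟨even_two, by omega⟩)
  obtain ⟨z, hz, hzo⟩ := exists_inv_of_even_card _ heven
  refine ⟨(z : G), z.2, ?_, ?_⟩
  · have h1 : orderOf (z : G) = orderOf z := Subgroup.orderOf_coe z
    rw [h1, hzo]
  · intro a ha
    have := (Subgroup.mem_center_iff.mp hz) ⟨a, ha⟩
    exact congrArg Subtype.val this

variable (T : Sylow 2 G) (hnc : ¬ IsCyclic (T : Subgroup G)) (hC : CITHyp G)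
include hnc hC

theorem cit_T_sq {a : G} (ha : a ∈ (T : Subgroup G)) : a * a = 1 := by
  obtain ⟨t₀, ht₀, ho, hcomm⟩ := cit_exists_central_inv T hnc
  have hmem : a ∈ Subgroup.centralizer ({t₀} : Set G) := by
    rw [Subgroup.mem_centralizer_iff]
    intro x hx
    rw [Set.mem_singleton_iff] at hx
    subst hx
    exact (hcomm a ha).symm
  have := (hC t₀ ho).2 a hmem
  rwa [pow_two] at this

theorem cit_T_comm {a b : G} (ha : a ∈ (T : Subgroup G)) (hb : b ∈ (T : Subgroup G)) :
    a * b = b * a := by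
  obtain ⟨t₀, ht₀, ho, hcomm⟩ := cit_exists_central_inv T hnc
  have hmem : ∀ a ∈ (T : Subgroup G), a ∈ Subgroup.centralizer ({t₀} : Set G) := by
    intro a ha
    rw [Subgroup.mem_centralizer_iff]
    intro x hx
    rw [Set.mem_singleton_iff] at hx
    subst hx
    exact (hcomm a ha).symm
  have h1 := (hC t₀ ho).1
  have := h1.is_comm.comm ⟨a, hmem a ha⟩ ⟨b, hmem b hb⟩
  exact congrArg Subtype.val this

theorem cit_orderOf {a : G} (ha : a ∈ (T : Subgroup G)) (ha1 : a ≠ 1) : orderOf a = 2 :=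
  orderOf_eq_two_of (cit_T_sq T hnc hC ha) ha1

theorem cit_centralizer_eq {t : G} (ht : t ∈ (T : Subgroup G)) (ht1 : t ≠ 1) :
    Subgroup.centralizer ({t} : Set G) = (T : Subgroup G) := by
  have ho := cit_orderOf T hnc hC ht ht1
  have hp : IsPGroup 2 (Subgroup.centralizer ({t} : Set G)) := by
    intro c
    refine ⟨1, ?_⟩
    have := (hC t ho).2 c c.2
    ext
    simpa using this
  apply T.is_maximal' hp
  intro a ha
  rw [Subgroup.mem_centralizer_iff]
  intro x hx
  rw [Set.mem_singleton_iff] at hx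
  subst hx
  exact cit_T_comm T hnc hC ht ha

omit hnc hC in
theorem cit_inv_mem_T {s : G} (hs : orderOf s = 2)
    (hsN : s ∈ Subgroup.normalizer ((T : Subgroup G) : Set G)) : s ∈ (T : Subgroup G) := by
  have : Fact (Nat.Prime 2) := ⟨Nat.prime_two⟩
  have hp : IsPGroup 2 (Subgroup.zpowers s) := by
    apply IsPGroup.of_card (n := 1)
    rw [Nat.card_zpowers, hs, pow_one]
  have h1 := hp.inf_normalizer_sylow T
  have h2 : s ∈ Subgroup.zpowers s ⊓ Subgroup.normalizer ((T : Subgroup G) : Set G) :=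
    ⟨Subgroup.mem_zpowers s, hsN⟩
  have h3 : s ∈ Subgroup.zpowers s ⊓ (T : Subgroup G) := by rw [← h1]; exact h2
  exact h3.2

theorem cit_TI {t g : G} (ht : t ∈ (T : Subgroup G)) (ht1 : t ≠ 1)
    (htg : g⁻¹ * t * g ∈ (T : Subgroup G)) :
    g ∈ Subgroup.normalizer ((T : Subgroup G) : Set G) := by
  have h1 := cit_centralizer_eq T hnc hC ht ht1
  have ht1' : g⁻¹ * t * g ≠ 1 := by
    intro h
    apply ht1
    have := congrArg (fun x => g * x * g⁻¹) h
    simpa [mul_assoc] using this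
  have h2 := cit_centralizer_eq T hnc hC htg ht1'
  rw [Subgroup.mem_normalizer_iff]
  intro h
  constructor
  · intro hh
    rw [← h1, Subgroup.mem_centralizer_iff]
    intro x hx
    rw [Set.mem_singleton_iff] at hx
    subst hx
    have hc := cit_T_comm T hnc hC htg hh
    -- (g⁻¹ x g) h = h (g⁻¹ x g)
    calc x * (g * h * g⁻¹) = g * ((g⁻¹ * x * g) * h) * g⁻¹ := by group
      _ = g * (h * (g⁻¹ * x * g)) * g⁻¹ := by rw [hc]
      _ = g * h * g⁻¹ * x := by group
  · intro hh
    rw [← h2, Subgroup.mem_centralizer_iff]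
    intro x hx
    rw [Set.mem_singleton_iff] at hx
    subst hx
    have hc := cit_T_comm T hnc hC ht hh
    calc g⁻¹ * t * g * h = g⁻¹ * (t * (g * h * g⁻¹)) * g := by group
      _ = g⁻¹ * ((g * h * g⁻¹) * t) * g := by rw [hc]
      _ = h * (g⁻¹ * t * g) := by group

theorem cit_se (hnn : ¬ (T : Subgroup G).Normal) :
    Cfsg.IsStronglyEmbedded (Subgroup.normalizer ((T : Subgroup G) : Set G)) := by
  refine ⟨?_, ?_, ?_⟩
  · intro h
    exact hnn (Subgroup.normalizer_eq_top_iff.mp h)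
  · obtain ⟨t₀, ht₀, ho, -⟩ := cit_exists_central_inv T hnc
    exact even_card_of_inv_mem _ ho (Subgroup.le_normalizer ht₀)
  · intro g hg
    by_contra hodd
    rw [Nat.not_odd_iff_even] at hodd
    obtain ⟨s, hs, hso⟩ := exists_inv_of_even_card _ hodd
    have hsT : s ∈ (T : Subgroup G) := cit_inv_mem_T T hso hs.1
    have hs2 : g⁻¹ * s * g ∈ Subgroup.normalizer ((T : Subgroup G) : Set G) :=
      (mem_map_conj_iff _ g s).mp hs.2
    have hso2 : orderOf (g⁻¹ * s * g) = 2 := by
      have := orderOf_conj_eq g⁻¹ s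
      rw [inv_inv] at this
      rw [this, hso]
    have hsT2 : g⁻¹ * s * g ∈ (T : Subgroup G) := cit_inv_mem_T T hso2 hs2
    exact hg (cit_TI T hnc hC hsT (inv_ne_one hso) hsT2)

end Cfsg.Agent.H26
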