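import Cfsg.Agent.H26.CIT
import Cfsg.Agent.H26.SE2

set_option autoImplicit false

namespace Cfsg.Agent.H26

open Subgroup

variable {G : Type*} [Group G]

/-- `H ∩ gHg⁻¹` -/
def Dg (H : Subgroup G) (g : G) : Subgroup G := H ⊓ H.map (MulAut.conj g).toMonoidHom

theorem mem_Dg (H : Subgroup G) (g d : G) : d ∈ Dg H g ↔ d ∈ H ∧ g⁻¹ * d * g ∈ H := by
  unfold Dg; rw [Subgroup.mem_inf, mem_map_conj_iff]

/-- `Dg` only depends on the coset `gH` -/
theorem Dg_congr (H : Subgroup G) {g g' : G} (h : g⁻¹ * g' ∈ H) : Dg H g = Dg H g' := by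
  ext d
  rw [mem_Dg, mem_Dg]
  constructor
  · rintro ⟨h1, h2⟩
    refine ⟨h1, ?_⟩
    have : g'⁻¹ * d * g' = (g⁻¹ * g')⁻¹ * (g⁻¹ * d * g) * (g⁻¹ * g') := by group
    rw [this]; exact H.mul_mem (H.mul_mem (H.inv_mem h) h2) h
  · rintro ⟨h1, h2⟩
    refine ⟨h1, ?_⟩
    have : g⁻¹ * d * g = (g⁻¹ * g') * (g'⁻¹ * d * g') * (g⁻¹ * g')⁻¹ := by group
    rw [this]; exact H.mul_mem (H.mul_mem h h2) (H.inv_mem h)

theorem Dg_conj_mem (H : Subgroup G) {u d : G} (hu : orderOf u = 2) (hd : d ∈ Dg H u) :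
    u * d * u⁻¹ ∈ Dg H u := by
  rw [mem_Dg] at hd ⊢
  have huinv : u⁻¹ = u := inv_inv_eq hu
  constructor
  · have : u * d * u⁻¹ = u⁻¹ * d * u := by rw [huinv]
    rw [this]; exact hd.2
  · have : u⁻¹ * (u * d * u⁻¹) * u = d := by group
    rw [this]; exact hd.1

/-- the normalizer of a Sylow 2-subgroup -/
abbrev NT (T : Sylow 2 G) : Subgroup G := Subgroup.normalizer ((T : Subgroup G) : Set G)

variable [Finite G]

section CIT

variable (T : Sylow 2 G) (hnc : ¬ IsCyclic (T : Subgroup G)) (hnn : ¬ (T : Subgroup G).Normal)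
  (hC : CITHyp G)
include hnc hnn hC

theorem cit_exists_inv_coset {g : G} (hg : g ∉ NT T) :
    ∃ u : G, orderOf u = 2 ∧ u ∉ NT T ∧ u⁻¹ * g ∈ NT T := by
  have hse := cit_se T hnc hC hnn
  have hcard := se_card_swap hse hg
  have hpos : 0 < Nat.card {t : G // orderOf t = 2 ∧ t ∈ NT T} := by
    obtain ⟨t, ht1, ht2⟩ := se_exists_inv hse
    have : Nonempty {t : G // orderOf t = 2 ∧ t ∈ NT T} := ⟨⟨t, ht1, ht2⟩⟩
    exact Nat.card_pos
  rw [← hcard] at hpos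
  obtain ⟨⟨u, hu1, hu2⟩⟩ := (Nat.card_pos_iff.mp hpos).1
  refine ⟨u, hu1, ?_, hu2⟩
  intro hu
  apply hg
  have := (NT T).mul_mem hu hu2
  simpa using this

theorem cit_Dg_odd {g : G} (hg : g ∉ NT T) : Odd (Nat.card (Dg (NT T) g)) :=
  (cit_se T hnc hC hnn).2.2 g hg

theorem cit_Dg_eq_one_of_sq {g d : G} (hg : g ∉ NT T) (hd : d ∈ Dg (NT T) g) (hd2 : d * d = 1) :
    d = 1 := by
  by_contra h
  have ho := orderOf_eq_two_of hd2 h
  have := even_card_of_inv_mem _ ho hd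
  exact (Nat.not_even_iff_odd.mpr (cit_Dg_odd T hnc hnn hC hg)) this

theorem cit_Dg_inter_T {g d : G} (hg : g ∉ NT T) (hd : d ∈ Dg (NT T) g)
    (hdT : d ∈ (T : Subgroup G)) : d = 1 :=
  cit_Dg_eq_one_of_sq T hnc hnn hC hg hd (cit_T_sq T hnc hC hdT)

theorem cit_Dg_free {g d t : G} (hg : g ∉ NT T) (hd : d ∈ Dg (NT T) g)
    (ht : t ∈ (T : Subgroup G)) (ht1 : t ≠ 1) (h : d * t = t * d) : d = 1 := by
  apply cit_Dg_inter_T T hnc hnn hC hg hd
  rw [← cit_centralizer_eq T hnc hC ht ht1, Subgroup.mem_centralizer_iff]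
  intro x hx
  rw [Set.mem_singleton_iff] at hx
  subst hx
  exact h.symm

theorem cit_D_cent_u {u d : G} (hu : orderOf u = 2) (huN : u ∉ NT T) (hd : d ∈ Dg (NT T) u)
    (h : u * d = d * u) : d = 1 := by
  apply cit_Dg_eq_one_of_sq T hnc hnn hC huN hd
  have hmem : d ∈ Subgroup.centralizer ({u} : Set G) := by
    rw [Subgroup.mem_centralizer_iff]
    intro x hx
    rw [Set.mem_singleton_iff] at hx
    subst hx
    exact h
  have := (hC u hu).2 d hmem
  rwa [pow_two] at this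

theorem cit_D_inverted {u d : G} (hu : orderOf u = 2) (huN : u ∉ NT T) (hd : d ∈ Dg (NT T) u) :
    u * d * u⁻¹ = d⁻¹ := by
  let φ : Dg (NT T) u → Dg (NT T) u := fun e =>
    ⟨(e : G)⁻¹ * (u * e * u⁻¹), (Dg (NT T) u).mul_mem ((Dg (NT T) u).inv_mem e.2)
      (Dg_conj_mem _ hu e.2)⟩
  have hinj : Function.Injective φ := by
    intro e₁ e₂ h
    have h' : (e₁ : G)⁻¹ * (u * e₁ * u⁻¹) = (e₂ : G)⁻¹ * (u * e₂ * u⁻¹) := congrArg Subtype.val h
    have h2 : (e₂ : G) * (e₁ : G)⁻¹ = u * ((e₂ : G) * (e₁ : G)⁻¹) * u⁻¹ := by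
      calc (e₂ : G) * (e₁ : G)⁻¹
          = e₂ * ((e₁ : G)⁻¹ * (u * e₁ * u⁻¹)) * (u * e₁ * u⁻¹)⁻¹ := by group
        _ = e₂ * ((e₂ : G)⁻¹ * (u * e₂ * u⁻¹)) * (u * e₁ * u⁻¹)⁻¹ := by rw [h']
        _ = u * ((e₂ : G) * (e₁ : G)⁻¹) * u⁻¹ := by group
    have hc : u * ((e₂ : G) * (e₁ : G)⁻¹) = ((e₂ : G) * (e₁ : G)⁻¹) * u := by
      have := congrArg (· * u) h2
      simp only [inv_mul_cancel_right] at this
      exact this.symm
    have h3 := cit_D_cent_u T hnc hnn hC hu huN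
      ((Dg (NT T) u).mul_mem e₂.2 ((Dg (NT T) u).inv_mem e₁.2)) hc
    apply Subtype.ext
    exact (mul_inv_eq_one.mp h3).symm
  have hsurj : Function.Surjective φ := Finite.surjective_of_injective hinj
  obtain ⟨e, he⟩ := hsurj ⟨d, hd⟩
  have he' : (e : G)⁻¹ * (u * e * u⁻¹) = d := congrArg Subtype.val he
  rw [← he']
  have huu : u * u = 1 := inv_sq hu
  have huinv : u⁻¹ = u := inv_inv_eq hu
  have huu' : u⁻¹ * u⁻¹ = 1 := by rw [huinv]; exact huu
  calc u * ((e : G)⁻¹ * (u * e * u⁻¹)) * u⁻¹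
      = (u * (e : G)⁻¹ * u⁻¹) * (u * u) * e * (u⁻¹ * u⁻¹) := by group
    _ = (u * (e : G)⁻¹ * u⁻¹) * e := by rw [huu, huu', mul_one, mul_one]
    _ = ((e : G)⁻¹ * (u * e * u⁻¹))⁻¹ := by group

theorem cit_D_comm {u d e : G} (hu : orderOf u = 2) (huN : u ∉ NT T) (hd : d ∈ Dg (NT T) u)
    (he : e ∈ Dg (NT T) u) : d * e = e * d := by
  have h1 := cit_D_inverted T hnc hnn hC hu huN hd
  have h2 := cit_D_inverted T hnc hnn hC hu huN he
  have h3 := cit_D_inverted T hnc hnn hC hu huN ((Dg (NT T) u).mul_mem hd he)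
  have h4 : u * (d * e) * u⁻¹ = (u * d * u⁻¹) * (u * e * u⁻¹) := by group
  rw [h3, h1, h2] at h4
  have := congrArg (·⁻¹) h4
  simp only [inv_inv, mul_inv_rev] at this
  exact this

theorem cit_Dg_comm {g d e : G} (hg : g ∉ NT T) (hd : d ∈ Dg (NT T) g)
    (he : e ∈ Dg (NT T) g) : d * e = e * d := by
  obtain ⟨u, hu, huN, hug⟩ := cit_exists_inv_coset T hnc hnn hC hg
  have hDeq : Dg (NT T) g = Dg (NT T) u :=
    Dg_congr _ (by have := (NT T).inv_mem hug; simpa using this)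
  rw [hDeq] at hd he
  exact cit_D_comm T hnc hnn hC hu huN hd he

theorem cit_Dg_card {g : G} (hg : g ∉ NT T) :
    Nat.card (Dg (NT T) g) + 1 = Nat.card (T : Subgroup G) := by
  classical
  obtain ⟨u, hu, huN, hug⟩ := cit_exists_inv_coset T hnc hnn hC hg
  have hDeq : Dg (NT T) g = Dg (NT T) u :=
    Dg_congr _ (by have := (NT T).inv_mem hug; simpa using this)
  rw [hDeq]
  obtain ⟨t₀, ht₀, ho, -⟩ := cit_exists_central_inv T hnc
  have hnormal : ∀ d ∈ Dg (NT T) u, ∀ t ∈ (T : Subgroup G), d * t * d⁻¹ ∈ (T : Subgroup G) := by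
    intro d hd t ht
    have hdN : d ∈ NT T := ((mem_Dg _ _ _).mp hd).1
    exact (Subgroup.mem_normalizer_iff.mp hdN t).mp ht
  let f : Dg (NT T) u → {t : (T : Subgroup G) // t ≠ 1} := fun d =>
    ⟨⟨d * t₀ * (d : G)⁻¹, hnormal d d.2 t₀ ht₀⟩, by
      intro h
      have h' : (d : G) * t₀ * (d : G)⁻¹ = 1 := congrArg Subtype.val h
      have : t₀ = 1 := by
        have := congrArg (fun x => (d : G)⁻¹ * x * d) h'
        simpa [mul_assoc] using this
      exact inv_ne_one ho this⟩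
  have hbij : Function.Bijective f := by
    constructor
    · intro d e h
      have h' : (d : G) * t₀ * (d : G)⁻¹ = (e : G) * t₀ * (e : G)⁻¹ :=
        congrArg (fun x => ((x.1 : (T : Subgroup G)) : G)) h
      have hc : ((e : G)⁻¹ * d) * t₀ = t₀ * ((e : G)⁻¹ * d) := by
        calc (e : G)⁻¹ * d * t₀ = (e : G)⁻¹ * (d * t₀ * (d : G)⁻¹) * d := by group
          _ = (e : G)⁻¹ * (e * t₀ * (e : G)⁻¹) * d := by rw [h']
          _ = t₀ * ((e : G)⁻¹ * d) := by group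
      have := cit_Dg_free T hnc hnn hC huN
        ((Dg (NT T) u).mul_mem ((Dg (NT T) u).inv_mem e.2) d.2) ht₀ (inv_ne_one ho) hc
      apply Subtype.ext
      exact (inv_mul_eq_one.mp this).symm
    · rintro ⟨⟨t, ht⟩, ht1⟩
      have ht1' : t ≠ 1 := fun h => ht1 (Subtype.ext h)
      have hto := cit_orderOf T hnc hC ht ht1'
      obtain ⟨d, hd, hdt⟩ := se_D_trans (cit_se T hnc hC hnn) hu huN ho
        (Subgroup.le_normalizer ht₀) hto (Subgroup.le_normalizer ht)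
      exact ⟨⟨d, hd⟩, Subtype.ext (Subtype.ext hdt)⟩
  have h1 := Nat.card_congr (Equiv.ofBijective f hbij)
  rw [h1]
  have h2 := Nat.card_congr (Equiv.optionSubtypeNe (1 : (T : Subgroup G)))
  rw [Finite.card_option] at h2
  exact h2

theorem cit_N_eq_DT {u h : G} (hu : orderOf u = 2) (huN : u ∉ NT T) (hh : h ∈ NT T) :
    ∃ d ∈ Dg (NT T) u, ∃ t ∈ (T : Subgroup G), h = d * t := by
  obtain ⟨t₀, ht₀, ho, -⟩ := cit_exists_central_inv T hnc
  have h1 : h * t₀ * h⁻¹ ∈ (T : Subgroup G) := (Subgroup.mem_normalizer_iff.mp hh t₀).mp ht₀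
  have h1o : orderOf (h * t₀ * h⁻¹) = 2 := by rw [orderOf_conj_eq]; exact ho
  obtain ⟨d, hd, hdt⟩ := se_D_trans (cit_se T hnc hC hnn) hu huN ho
    (Subgroup.le_normalizer ht₀) h1o (Subgroup.le_normalizer h1)
  refine ⟨d, hd, d⁻¹ * h, ?_, by group⟩
  rw [← cit_centralizer_eq T hnc hC ht₀ (inv_ne_one ho), Subgroup.mem_centralizer_iff]
  intro x hx
  rw [Set.mem_singleton_iff] at hx
  subst hx
  calc x * (d⁻¹ * h) = d⁻¹ * (d * x * d⁻¹) * h := by group
    _ = d⁻¹ * (h * x * h⁻¹) * h := by rw [hdt]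
    _ = d⁻¹ * h * x := by group

theorem cit_N_eq_DgT {g h : G} (hg : g ∉ NT T) (hh : h ∈ NT T) :
    ∃ d ∈ Dg (NT T) g, ∃ t ∈ (T : Subgroup G), h = d * t := by
  obtain ⟨u, hu, huN, hug⟩ := cit_exists_inv_coset T hnc hnn hC hg
  have hDeq : Dg (NT T) g = Dg (NT T) u :=
    Dg_congr _ (by have := (NT T).inv_mem hug; simpa using this)
  rw [hDeq]
  exact cit_N_eq_DT T hnc hnn hC hu huN hh

theorem cit_complement {g : G} (hg : g ∉ NT T) :
    Subgroup.IsComplement' ((Dg (NT T) g).subgroupOf (NT T))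
      ((T : Subgroup G).subgroupOf (NT T)) := by
  apply Subgroup.isComplement'_of_disjoint_and_mul_eq_univ
  · rw [Subgroup.disjoint_def]
    intro x hx1 hx2
    rw [Subgroup.mem_subgroupOf] at hx1 hx2
    apply Subtype.ext
    exact cit_Dg_inter_T T hnc hnn hC hg hx1 hx2
  · rw [Set.eq_univ_iff_forall]
    intro h
    obtain ⟨d, hd, t, ht, hdt⟩ := cit_N_eq_DgT T hnc hnn hC hg h.2
    rw [Set.mem_mul]
    refine ⟨⟨d, ((mem_Dg _ _ _).mp hd).1⟩, ?_, ⟨t, Subgroup.le_normalizer ht⟩, ?_, ?_⟩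
    · show (⟨d, _⟩ : NT T) ∈ (Dg (NT T) g).subgroupOf (NT T)
      rw [Subgroup.mem_subgroupOf]; exact hd
    · show (⟨t, _⟩ : NT T) ∈ (T : Subgroup G).subgroupOf (NT T)
      rw [Subgroup.mem_subgroupOf]; exact ht
    · apply Subtype.ext
      exact hdt.symm

theorem cit_card_N : Nat.card (NT T) = Nat.card (T : Subgroup G) * (Nat.card (T : Subgroup G) - 1) := by
  have hne : ∃ g : G, g ∉ NT T := by
    by_contra h
    simp only [not_exists, not_not] at h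
    exact hnn (Subgroup.normalizer_eq_top_iff.mp ((Subgroup.eq_top_iff' _).mpr h))
  obtain ⟨g, hg⟩ := hne
  have h1 := (cit_complement T hnc hnn hC hg).card_mul_card
  have hDle : Dg (NT T) g ≤ NT T := fun d hd => ((mem_Dg _ _ _).mp hd).1
  have h2 : Nat.card ((Dg (NT T) g).subgroupOf (NT T)) = Nat.card (Dg (NT T) g) :=
    Nat.card_congr (Subgroup.subgroupOfEquivOfLe hDle).toEquiv
  have h3 : Nat.card ((T : Subgroup G).subgroupOf (NT T)) = Nat.card (T : Subgroup G) :=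
    Nat.card_congr (Subgroup.subgroupOfEquivOfLe Subgroup.le_normalizer).toEquiv
  have h4 := cit_Dg_card T hnc hnn hC hg
  rw [h2, h3] at h1
  rw [← h1, ← h4]
  simp [mul_comm]

end CIT

end Cfsg.Agent.H26
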