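import Mathlib
import Cfsg.Agent.H26.GZ
import Cfsg.Prelude.Def_FusionSystem

/-!
# The centre of the 2-fusion system of a group (helper26)

`fus_center hZ S : (groupFusionSystem S).center = S ⊓ (preimage of Z(G/O(G)))`, conditional on
`ZStarHyp` (the statement of Glauberman's Z*-theorem).
-/

set_option autoImplicit false

namespace Cfsg.Agent.H26

open Subgroup

universe u

theorem eq_one_of_two_pow_of_dvd_odd {G : Type*} [Group G] {x : G} {j m : ℕ}
    (h2 : orderOf x = 2 ^ j) (hd : orderOf x ∣ m) (hm : Odd m) : x = 1 := by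
  rcases Nat.eq_zero_or_pos j with h0 | h0
  · rw [h0, pow_zero] at h2
    exact orderOf_eq_one_iff.mp h2
  · exfalso
    have : 2 ∣ m := by
      refine dvd_trans ?_ hd
      rw [h2]; exact dvd_pow_self 2 (by omega)
    exact (Nat.not_even_iff_odd.mpr hm) (even_iff_two_dvd.mpr this)

/-- A `2`-subgroup of `T N` (`T` a `2`-group normalizing the odd-order subgroup `N`) is
conjugate into `T` by an element of `N`. -/
theorem exists_conj_le_of_coprime {G : Type*} [Group G] [Finite G] (T N A : Subgroup G)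
    (hT : IsPGroup 2 T) (hN : Odd (Nat.card N)) (hTN : T ≤ normalizer (N : Set G))
    (hA : IsPGroup 2 A) (hAK : A ≤ T ⊔ N) : ∃ n ∈ N, ∀ a ∈ A, n * a * n⁻¹ ∈ T := by
  have : Fact (Nat.Prime 2) := ⟨Nat.prime_two⟩
  have hNK : N ≤ T ⊔ N := le_sup_right
  have hTK : T ≤ T ⊔ N := le_sup_left
  have hnorm : (N.subgroupOf (T ⊔ N)).Normal :=
    (Subgroup.normal_subgroupOf_iff_le_normalizer hNK).mpr (sup_le hTN le_normalizer)
  obtain ⟨S₀, hS₀⟩ := (hT.comap_subtype (K := T ⊔ N)).exists_le_sylow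
  have htop : ∀ k : ↥(T ⊔ N), ∃ t ∈ T.subgroupOf (T ⊔ N), ∃ n ∈ N.subgroupOf (T ⊔ N),
      t * n = k := by
    intro k
    have hk : k ∈ T.subgroupOf (T ⊔ N) ⊔ N.subgroupOf (T ⊔ N) := by
      rw [← Subgroup.subgroupOf_sup hTK hNK]
      exact Subgroup.mem_subgroupOf.mpr k.2
    exact Subgroup.mem_sup_of_normal_right.mp hk
  have hA' : IsPGroup 2 (A.subgroupOf (T ⊔ N)) := hA.comap_subtype
  obtain ⟨n', hn', h⟩ := exists_conj_le_sylow S₀ (N.subgroupOf (T ⊔ N)) (A.subgroupOf (T ⊔ N)) hA'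
    (by
      intro a _
      obtain ⟨t, ht, n, hn, rfl⟩ := htop a
      exact mul_mem (mem_sup_left (hS₀ ht)) (mem_sup_right hn))
  refine ⟨n', mem_subgroupOf.mp hn', fun a ha => ?_⟩
  have h1 := h ⟨a, hAK ha⟩ (mem_subgroupOf.mpr ha)
  obtain ⟨t, ht, n, hn, htn⟩ := htop (n' * ⟨a, hAK ha⟩ * n'⁻¹)
  have hnS : n ∈ S₀ := by
    have e : n = t⁻¹ * (n' * ⟨a, hAK ha⟩ * n'⁻¹) := by rw [← htn]; group
    rw [e]; exact mul_mem (inv_mem (hS₀ ht)) h1
  have hn1 : n = 1 := by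
    obtain ⟨j, hj⟩ := (IsPGroup.iff_orderOf.mp S₀.isPGroup') ⟨n, hnS⟩
    rw [Subgroup.orderOf_mk] at hj
    have hd : orderOf n ∣ Nat.card N := by
      rw [← Subgroup.orderOf_coe]
      exact Subgroup.orderOf_dvd_natCard _ (mem_subgroupOf.mp hn)
    exact eq_one_of_two_pow_of_dvd_odd hj hd hN
  rw [hn1, mul_one] at htn
  have h2 : (t : G) ∈ T := mem_subgroupOf.mp ht
  have h3 := congrArg Subtype.val htn
  have h4 : (t : G) = (n' : G) * a * (n' : G)⁻¹ := by simpa using h3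
  rw [← h4]; exact h2

theorem mem_comap_center_iff {G : Type*} [Group G] (N : Subgroup G) [N.Normal] (x : G) :
    x ∈ (center (G ⧸ N)).comap (QuotientGroup.mk' N) ↔ ∀ g : G, x * g * x⁻¹ * g⁻¹ ∈ N := by
  rw [Subgroup.mem_comap, Subgroup.mem_center_iff]
  constructor
  · intro h g
    have h1 := h (QuotientGroup.mk' N g)
    apply (QuotientGroup.eq_one_iff _).mp
    show QuotientGroup.mk' N (x * g * x⁻¹ * g⁻¹) = 1
    rw [map_mul, map_mul, map_mul, map_inv, map_inv, ← h1]; group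
  · intro h g'
    obtain ⟨g, rfl⟩ := QuotientGroup.mk'_surjective N g'
    have h1 : QuotientGroup.mk' N (x * g * x⁻¹ * g⁻¹) = 1 := (QuotientGroup.eq_one_iff _).mpr (h g)
    rw [map_mul, map_mul, map_mul, map_inv, map_inv] at h1
    have h2 : QuotientGroup.mk' N x * QuotientGroup.mk' N g =
        (QuotientGroup.mk' N x * QuotientGroup.mk' N g * (QuotientGroup.mk' N x)⁻¹ *
          (QuotientGroup.mk' N g)⁻¹) * (QuotientGroup.mk' N g * QuotientGroup.mk' N x) := by group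
    rw [h1, one_mul] at h2
    exact h2.symm

theorem conj_comm_mem {G : Type*} [Group G] (N : Subgroup G) [hN : N.Normal] {x : G}
    (h : ∀ g : G, x * g * x⁻¹ * g⁻¹ ∈ N) (g : G) : g * x * g⁻¹ * x⁻¹ ∈ N := by
  have h1 := h g⁻¹
  have h2 := hN.conj_mem _ h1 g
  have e : g * (x * g⁻¹ * x⁻¹ * g⁻¹⁻¹) * g⁻¹ = g * x * g⁻¹ * x⁻¹ := by group
  rw [e] at h2; exact h2

/-- elements of `Z*(G) ∩ S` are central in `S` -/
theorem zstar_comm {G : Type*} [Group G] [Finite G] (S : Sylow 2 G) {z : G} (hzS : z ∈ S)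
    (hz : ∀ g : G, z * g * z⁻¹ * g⁻¹ ∈ Cfsg.oddCore G) {s : G} (hs : s ∈ S) : z * s = s * z := by
  have h1 : z * s * z⁻¹ * s⁻¹ ∈ (S : Subgroup G) :=
    mul_mem (mul_mem (mul_mem hzS hs) (inv_mem hzS)) (inv_mem hs)
  have h2 := eq_one_of_mem_sylow_of_mem_core S h1 (hz s)
  calc z * s = (z * s * z⁻¹ * s⁻¹) * (s * z) := by group
    _ = s * z := by rw [h2, one_mul]

/-- a conjugate of an element of `Z*(G) ∩ S` lying in `S` is the element itself -/
theorem zstar_conj_eq {G : Type*} [Group G] [Finite G] (S : Sylow 2 G) {z : G} (hzS : z ∈ S)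
    (hz : ∀ g : G, z * g * z⁻¹ * g⁻¹ ∈ Cfsg.oddCore G) {g : G} (hg : g * z * g⁻¹ ∈ S) :
    g * z * g⁻¹ = z := by
  have h1 : g * z * g⁻¹ * z⁻¹ ∈ (S : Subgroup G) := mul_mem hg (inv_mem hzS)
  have h2 := eq_one_of_mem_sylow_of_mem_core S h1 (conj_comm_mem _ hz g)
  calc g * z * g⁻¹ = (g * z * g⁻¹ * z⁻¹) * z := by group
    _ = z := by rw [h2, one_mul]

theorem isCentral_zstar {G : Type*} [Group G] [Finite G] (S : Sylow 2 G) :
    (Cfsg.groupFusionSystem (S : Subgroup G)).IsCentral ((S : Subgroup G) ⊓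
      (center (G ⧸ Cfsg.oddCore G)).comap (QuotientGroup.mk' (Cfsg.oddCore G))) := by
  have hmem : ∀ z : G, z ∈ (S : Subgroup G) ⊓
      (center (G ⧸ Cfsg.oddCore G)).comap (QuotientGroup.mk' (Cfsg.oddCore G)) ↔
      z ∈ (S : Subgroup G) ∧ ∀ g : G, z * g * z⁻¹ * g⁻¹ ∈ Cfsg.oddCore G := by
    intro z
    rw [Subgroup.mem_inf, mem_comap_center_iff]
  refine ⟨inf_le_left, fun P φ hφ => ?_⟩
  obtain ⟨hP, hφS, g, hg⟩ := hφ
  have hgS : ∀ x ∈ P, g * x * g⁻¹ ∈ (S : Subgroup G) := fun x hx => by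
    have := hφS ⟨x, hx⟩
    rw [hg] at this; exact this
  -- the odd group `N = O ∩ C(gPg⁻¹)`
  have hT : IsPGroup 2 ((S : Subgroup G) ⊓
      (center (G ⧸ Cfsg.oddCore G)).comap (QuotientGroup.mk' (Cfsg.oddCore G)) : Subgroup G) :=
    S.isPGroup'.to_le inf_le_left
  have hNodd : Odd (Nat.card (Cfsg.oddCore G ⊓
      centralizer ((P.map (MulAut.conj g).toMonoidHom : Subgroup G) : Set G) : Subgroup G)) := by
    have h1 : Odd (Nat.card (Cfsg.oddCore G)) :=
      Nat.Coprime.odd_of_right (H60.card_pPrimeCore_coprime 2)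
    exact Odd.of_dvd_nat h1 (Subgroup.card_dvd_of_le inf_le_left)
  have hzcent : ∀ z ∈ (S : Subgroup G) ⊓
      (center (G ⧸ Cfsg.oddCore G)).comap (QuotientGroup.mk' (Cfsg.oddCore G)),
      z ∈ centralizer ((P.map (MulAut.conj g).toMonoidHom : Subgroup G) : Set G) := by
    intro z hz
    obtain ⟨hzS, hzO⟩ := (hmem z).mp hz
    rw [mem_centralizer_iff]
    rintro _ ⟨x, hx, rfl⟩
    exact (zstar_comm S hzS hzO (hgS x hx)).symm
  have hTN : ((S : Subgroup G) ⊓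
      (center (G ⧸ Cfsg.oddCore G)).comap (QuotientGroup.mk' (Cfsg.oddCore G)) : Subgroup G) ≤
      normalizer ((Cfsg.oddCore G ⊓
        centralizer ((P.map (MulAut.conj g).toMonoidHom : Subgroup G) : Set G) : Subgroup G) :
          Set G) := by
    intro z hz
    have hzc := hzcent z hz
    rw [mem_normalizer_iff]
    intro n
    constructor
    · intro hn
      exact Subgroup.mem_inf.mpr ⟨(Cfsg.pPrimeCore_normal 2 G).conj_mem n (Subgroup.mem_inf.mp hn).1 z,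
        mul_mem (mul_mem hzc (Subgroup.mem_inf.mp hn).2) (inv_mem hzc)⟩
    · intro hn
      have e : n = z⁻¹ * (z * n * z⁻¹) * z⁻¹⁻¹ := by group
      rw [e]
      exact Subgroup.mem_inf.mpr ⟨(Cfsg.pPrimeCore_normal 2 G).conj_mem _ (Subgroup.mem_inf.mp hn).1 z⁻¹,
        mul_mem (mul_mem (inv_mem hzc) (Subgroup.mem_inf.mp hn).2) (inv_mem (inv_mem hzc))⟩
  have hA : IsPGroup 2 (((S : Subgroup G) ⊓
      (center (G ⧸ Cfsg.oddCore G)).comap (QuotientGroup.mk' (Cfsg.oddCore G)) : Subgroup G).map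
      (MulAut.conj g).toMonoidHom) := hT.map _
  have hAK : ((S : Subgroup G) ⊓
      (center (G ⧸ Cfsg.oddCore G)).comap (QuotientGroup.mk' (Cfsg.oddCore G)) : Subgroup G).map
      (MulAut.conj g).toMonoidHom ≤
      ((S : Subgroup G) ⊓
      (center (G ⧸ Cfsg.oddCore G)).comap (QuotientGroup.mk' (Cfsg.oddCore G)) : Subgroup G) ⊔
      (Cfsg.oddCore G ⊓
        centralizer ((P.map (MulAut.conj g).toMonoidHom : Subgroup G) : Set G) : Subgroup G) := by
    rintro _ ⟨z, hz, rfl⟩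
    show g * z * g⁻¹ ∈ _
    obtain ⟨hzS, hzO⟩ := (hmem z).mp hz
    have hzc := hzcent z hz
    have e : g * z * g⁻¹ = z * (z⁻¹ * (g * z * g⁻¹)) := by group
    rw [e]
    refine mul_mem (mem_sup_left hz) (mem_sup_right (Subgroup.mem_inf.mpr ⟨?_, ?_⟩))
    · have h1 := conj_comm_mem _ hzO g
      have h2 := (Cfsg.pPrimeCore_normal 2 G).conj_mem _ h1 z⁻¹
      have e2 : z⁻¹ * (g * z * g⁻¹ * z⁻¹) * z⁻¹⁻¹ = z⁻¹ * (g * z * g⁻¹) := by group
      rw [e2] at h2; exact h2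
    · refine mul_mem (inv_mem hzc) ?_
      rw [mem_centralizer_iff]
      rintro _ ⟨x, hx, rfl⟩
      show g * x * g⁻¹ * (g * z * g⁻¹) = g * z * g⁻¹ * (g * x * g⁻¹)
      have h3 := zstar_comm S hzS hzO (hP hx)
      calc g * x * g⁻¹ * (g * z * g⁻¹) = g * (x * z) * g⁻¹ := by group
        _ = g * (z * x) * g⁻¹ := by rw [h3]
        _ = g * z * g⁻¹ * (g * x * g⁻¹) := by group
  obtain ⟨n, hn, hn'⟩ := exists_conj_le_of_coprime _ _ _ hT hNodd hTN hA hAK
  have hnc : ∀ x ∈ P, n * (g * x * g⁻¹) * n⁻¹ = g * x * g⁻¹ := by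
    intro x hx
    have h1 := mem_centralizer_iff.mp (Subgroup.mem_inf.mp hn).2 (g * x * g⁻¹) ⟨x, hx, rfl⟩
    calc n * (g * x * g⁻¹) * n⁻¹ = (g * x * g⁻¹ * n) * n⁻¹ := by rw [h1]
      _ = g * x * g⁻¹ := by group
  have hnz : ∀ z ∈ (S : Subgroup G) ⊓
      (center (G ⧸ Cfsg.oddCore G)).comap (QuotientGroup.mk' (Cfsg.oddCore G)),
      (n * g) * z * (n * g)⁻¹ = z := by
    intro z hz
    obtain ⟨hzS, hzO⟩ := (hmem z).mp hz
    have h1 := hn' (g * z * g⁻¹) ⟨z, hz, rfl⟩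
    have e : (n * g) * z * (n * g)⁻¹ = n * (g * z * g⁻¹) * n⁻¹ := by group
    apply zstar_conj_eq S hzS hzO
    rw [e]; exact ((hmem _).mp h1).1
  have hval : ∀ w ∈ P ⊔ ((S : Subgroup G) ⊓
      (center (G ⧸ Cfsg.oddCore G)).comap (QuotientGroup.mk' (Cfsg.oddCore G))),
      (n * g) * w * (n * g)⁻¹ ∈ (S : Subgroup G) := by
    intro w hw
    have hle : (P ⊔ ((S : Subgroup G) ⊓
        (center (G ⧸ Cfsg.oddCore G)).comap (QuotientGroup.mk' (Cfsg.oddCore G)))).map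
        (MulAut.conj (n * g)).toMonoidHom ≤ (S : Subgroup G) := by
      rw [Subgroup.map_sup]
      apply sup_le
      · rintro _ ⟨x, hx, rfl⟩
        show (n * g) * x * (n * g)⁻¹ ∈ (S : Subgroup G)
        have e : (n * g) * x * (n * g)⁻¹ = n * (g * x * g⁻¹) * n⁻¹ := by group
        rw [e, hnc x hx]; exact hgS x hx
      · rintro _ ⟨z, hz, rfl⟩
        show (n * g) * z * (n * g)⁻¹ ∈ (S : Subgroup G)
        rw [hnz z hz]; exact ((hmem z).mp hz).1
    exact hle ⟨w, hw, rfl⟩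
  refine ⟨Cfsg.conjHom _ (n * g), ⟨sup_le hP inf_le_left, fun w => hval w w.2, n * g, fun w => rfl⟩,
    fun x => ?_, fun z => ?_⟩
  · show (n * g) * (x : G) * (n * g)⁻¹ = φ x
    rw [hg]
    have e : (n * g) * (x : G) * (n * g)⁻¹ = n * (g * x * g⁻¹) * n⁻¹ := by group
    rw [e, hnc x x.2]
  · show (n * g) * (z : G) * (n * g)⁻¹ = z
    exact hnz z z.2

/-- **The centre of the 2-fusion system of a finite group** (from the Z*-theorem). -/
theorem fus_center (hZ : ZStarHyp.{u}) {G : Type u} [Group G] [Finite G] (S : Sylow 2 G) :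
    (Cfsg.groupFusionSystem (S : Subgroup G)).center = (S : Subgroup G) ⊓
      (center (G ⧸ Cfsg.oddCore G)).comap (QuotientGroup.mk' (Cfsg.oddCore G)) := by
  apply le_antisymm
  · apply sSup_le
    intro Q hQ
    have key : ∀ y ∈ Q, ∀ g : G, g * y * g⁻¹ ∈ (S : Subgroup G) → g * y * g⁻¹ = y := by
      intro y hy g hgy
      have hPS : zpowers y ≤ (S : Subgroup G) := zpowers_le.mpr (hQ.1 hy)
      have hφ : Cfsg.conjHom (zpowers y) g ∈
          (Cfsg.groupFusionSystem (S : Subgroup G)).Hom (zpowers y) := by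
        refine ⟨hPS, fun p => ?_, g, fun p => rfl⟩
        obtain ⟨k, hk⟩ := mem_zpowers_iff.mp p.2
        show g * (p : G) * g⁻¹ ∈ (S : Subgroup G)
        rw [← hk]
        have e : g * y ^ k * g⁻¹ = (g * y * g⁻¹) ^ k :=
          (map_zpow (MulAut.conj g) y k)
        rw [e]; exact zpow_mem hgy k
      obtain ⟨ψ, -, hext, hfix⟩ := hQ.2 (zpowers y) _ hφ
      have h1 := hext ⟨y, mem_zpowers y⟩
      have h2 := hfix ⟨y, hy⟩
      have h3 : (Subgroup.inclusion (le_sup_left : zpowers y ≤ zpowers y ⊔ Q) ⟨y, mem_zpowers y⟩) =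
          (Subgroup.inclusion (le_sup_right : Q ≤ zpowers y ⊔ Q) ⟨y, hy⟩) := rfl
      rw [h3, h2] at h1
      exact h1.symm
    intro x hx
    refine Subgroup.mem_inf.mpr ⟨hQ.1 hx, (mem_comap_center_iff _ x).mpr ?_⟩
    refine gz hZ S x (hQ.1 hx) (fun s hs => ?_) (fun i g hg => ?_)
    · have h1 := key x hx s (mul_mem (mul_mem hs (hQ.1 hx)) (inv_mem hs))
      calc x * s = (s * x * s⁻¹) * s := by rw [h1]
        _ = s * x := by group
    · rw [key (x ^ i) (pow_mem hx i) g hg]; exact mem_zpowers _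
  · exact le_sSup (isCentral_zstar S)

end Cfsg.Agent.H26
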