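import Mathlib
import Cfsg.Agent.H64.JyDefs
import Cfsg.Agent.Helper55.ThJ

/-! JY-NS (team project JY = S2953, led by helper64): `N_G(S) ≤ M` in a configuration. -/

set_option autoImplicit false
open Cfsg

namespace Cfsg.Agent.H26.Jy

universe u

/-- JY-NS -/
theorem ns : Cfsg.Agent.H64.Jy.StNS.{u} := by
  intro G _ _ S M T K L hB
  obtain ⟨-, -, -, hMJ, -, -, -, -, -⟩ := hB
  exact (Cfsg.Agent.Helper55.ThJ.normalizer_le (S : Subgroup G)).trans hMJ

example : Cfsg.Agent.H64.Jy.StNS.{u} := ns.{u}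

end Cfsg.Agent.H26.Jy
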