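import Mathlib
import Cfsg.Agent.H64.JzDefs
import Cfsg.Agent.H26.JzAEq
import Cfsg.Agent.H14.Replacement
import Cfsg.Agent.S2946

/-! JZ-RESA (team project JZ = S2951 / S2952, led by helper64): in the residual situation, if `T'`
has an elementary abelian subgroup of the largest order of `S`, clause 1 holds. -/

set_option autoImplicit false
open Cfsg

namespace Cfsg.Agent.H26.Jz

universe u

open Cfsg.Agent.Helper55.ThJ

/-- a nontrivial finite `2`-subgroup has nontrivial `Ω₁(Z(·))` -/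
theorem omegaCenterOf_ne_bot26 {G : Type u} [Group G] [Finite G] {S : Subgroup G}
    (hS : IsPGroup 2 ↥S) (hS1 : S ≠ ⊥) : omegaCenterOf S ≠ ⊥ := by
  haveI : Fact (Nat.Prime 2) := ⟨Nat.prime_two⟩
  haveI : Nontrivial ↥S := (Subgroup.nontrivial_iff_ne_bot S).mpr hS1
  haveI : Nontrivial ↥(Subgroup.center ↥S) := hS.center_nontrivial
  have hc : IsPGroup 2 ↥(Subgroup.center ↥S) := hS.to_subgroup _
  obtain ⟨n, hn⟩ := IsPGroup.iff_card.mp hc
  have h1 : 1 < Nat.card ↥(Subgroup.center ↥S) := Finite.one_lt_card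
  have hn0 : n ≠ 0 := by
    rintro rfl
    rw [pow_zero] at hn
    omega
  have hdvd : 2 ∣ Nat.card ↥(Subgroup.center ↥S) := by
    rw [hn]
    exact dvd_pow_self 2 hn0
  obtain ⟨c, hc2⟩ := exists_prime_orderOf_dvd_card' 2 hdvd
  intro hbot
  have hx : (((c : ↥S)) : G) ∈ omegaCenterOf S := by
    unfold omegaCenterOf omegaOne
    apply Subgroup.subset_closure
    refine ⟨Subgroup.mem_inf.mpr ⟨(c : ↥S).2, ?_⟩, ?_⟩
    · rw [Subgroup.mem_centralizer_iff]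
      intro h hh
      have h3 := Subgroup.mem_center_iff.mp c.2 ⟨h, hh⟩
      exact congrArg Subtype.val h3
    · have h3 : c ^ 2 = 1 := by
        rw [← hc2]
        exact pow_orderOf_eq_one c
      have h4 : ((c : ↥S) : G) ^ 2 = 1 := by
        have h5 := congrArg (fun z : ↥(Subgroup.center ↥S) => (((z : ↥S)) : G)) h3
        simpa using h5
      exact h4
  rw [hbot, Subgroup.mem_bot] at hx
  have hc1 : c = 1 := by
    apply Subtype.ext
    apply Subtype.ext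
    simpa using hx
  rw [hc1, orderOf_one] at hc2
  omega

/-- `Ω₁(Z(S)) ≤ Ω₁(Z(J(S)))` -/
theorem omegaCenterOf_le_omegaCenter_J {G : Type u} [Group G] [Finite G] (S : Subgroup G) :
    omegaCenterOf S ≤ omegaCenterOf (thompsonSubgroupOf 2 S) := by
  obtain ⟨A, hA⟩ := gens_nonempty S
  unfold omegaCenterOf omegaOne
  apply Subgroup.closure_mono
  rintro x ⟨hx, hx2⟩
  obtain ⟨hxS, hxC⟩ := Subgroup.mem_inf.mp hx
  have hxA : x ∈ A :=
    mem_gen_of_commute hA hxS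
      (fun a ha => Subgroup.mem_centralizer_iff.mp hxC a (hA.1 ha)) hx2
  exact ⟨Subgroup.mem_inf.mpr ⟨gen_le_J hA hxA,
    Subgroup.centralizer_le (by exact_mod_cast J_le S) hxC⟩, hx2⟩

/-- JZ-RESA -/
theorem resA : Cfsg.Agent.H64.Jz.StResA.{u} := by
  intro G _ _ S M K L T' K' L' hR ha
  obtain ⟨hB, hX, hB', hne⟩ := hR
  obtain ⟨hZN, -, -, -, -, -, -, -, -⟩ := hB
  obtain ⟨-, -, -, -, hT', hT'S, hK', -, -⟩ := hB'
  obtain ⟨hchar, hsolv, hZ⟩ := hZN
  have hT'str := hT'.1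
  have hK'comp : IsJComponent T' K' := hK'.1.1
  have hK'L : ¬ K' ≤ L := hK'.2.1
  obtain ⟨hW2, hsup⟩ := Cfsg.Agent.S2946.result hchar hsolv hZ T' hT'str.1 hT'str.2.1 K' hK'comp
    (omegaCenterOf (thompsonSubgroupOf 2 T')) rfl
  -- abbreviations
  obtain ⟨J, hJdef⟩ : ∃ J : Subgroup G, J = thompsonSubgroupOf 2 (S : Subgroup G) := ⟨_, rfl⟩
  obtain ⟨J', hJ'def⟩ : ∃ J' : Subgroup G, J' = thompsonSubgroupOf 2 T' := ⟨_, rfl⟩
  obtain ⟨Z0, hZ0def⟩ : ∃ Z0 : Subgroup G, Z0 = omegaCenterOf J := ⟨_, rfl⟩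
  obtain ⟨Z0', hZ0'def⟩ : ∃ Z0' : Subgroup G, Z0' = omegaCenterOf J' := ⟨_, rfl⟩
  obtain ⟨Z1', hZ1'def⟩ : ∃ Z1' : Subgroup G, Z1' = Z0' ⊓ ((K' ⊔ J') ⊓
      Subgroup.centralizer ((K' ⊔ J') : Set G)) := ⟨_, rfl⟩
  obtain ⟨W', hW'def⟩ : ∃ W' : Subgroup G, W' = Z0' ⊓ wOf K' := ⟨_, rfl⟩
  rw [← hJ'def, ← hZ0'def, ← hW'def] at hW2
  rw [← hJ'def, ← hZ0'def, ← hZ1'def, ← hW'def] at hsup
  -- (a) Z0 ≤ Z0'
  have hle : Z0 ≤ Z0' := by
    rw [hZ0def, hZ0'def, hJdef, hJ'def]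
    exact omegaCenter_J_le_of_a_eq hT'S ha
  -- Z0' is abelian
  have hZ0'J : Z0' ≤ J' := by
    rw [hZ0'def]; exact Cfsg.Agent.H14.omegaOne_center_le 2 J'
  have hZ0'C : Z0' ≤ Subgroup.centralizer (J' : Set G) := by
    rw [hZ0'def]; exact Cfsg.Agent.H14.omegaOne_center_le_centralizer 2 J'
  have hcomm : Z0' ≤ Subgroup.centralizer (Z0' : Set G) :=
    hZ0'C.trans (Subgroup.centralizer_le (by exact_mod_cast hZ0'J))
  have hnorm : ∀ A B : Subgroup G, A ≤ Z0' → B ≤ Z0' →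
      A ≤ Subgroup.normalizer (B : Set G) := fun A B hA hB =>
    (hA.trans hcomm).trans ((Subgroup.centralizer_le (by exact_mod_cast hB)).trans
      (Subgroup.centralizer_le_normalizer _))
  have hZ1'le : Z1' ≤ Z0' := by rw [hZ1'def]; exact inf_le_left
  have hW'le : W' ≤ Z0' := by rw [hW'def]; exact inf_le_left
  -- (c) Z0 ⊓ Z1' = ⊥
  have hdisj : Z0 ⊓ Z1' = ⊥ := by
    rw [eq_bot_iff]
    intro y hy
    rw [Subgroup.mem_bot]
    by_contra hy1
    obtain ⟨hy0, hy1'⟩ := Subgroup.mem_inf.mp hy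
    rw [hZ0def] at hy0
    have hyJ : y ∈ J := Cfsg.Agent.H14.omegaOne_center_le 2 J hy0
    have hyC : y ∈ Subgroup.centralizer (J : Set G) :=
      Cfsg.Agent.H14.omegaOne_center_le_centralizer 2 J hy0
    have hyS : y ∈ (S : Subgroup G) := by
      rw [hJdef] at hyJ
      exact J_le _ hyJ
    rw [hZ1'def] at hy1'
    have hyKJ : y ∈ Subgroup.centralizer ((K' ⊔ J') : Set G) :=
      (Subgroup.mem_inf.mp (Subgroup.mem_inf.mp hy1').2).2
    have hY2 : IsPGroup 2 ↥(Subgroup.zpowers y) :=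
      S.isPGroup'.to_le ((Subgroup.zpowers_le).mpr hyS)
    have hYne : Subgroup.zpowers y ≠ ⊥ := by
      intro h
      apply hy1
      have h2 := Subgroup.mem_zpowers y
      rw [h] at h2
      exact Subgroup.mem_bot.mp h2
    have hXloc : IsTwoLocal (Subgroup.normalizer ((Subgroup.zpowers y : Subgroup G) : Set G)) :=
      ⟨Subgroup.zpowers y, hY2, hYne, rfl⟩
    have hJX : J ≤ Subgroup.normalizer ((Subgroup.zpowers y : Subgroup G) : Set G) := by
      have h1 : Subgroup.zpowers y ≤ Subgroup.centralizer (J : Set G) :=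
        (Subgroup.zpowers_le).mpr hyC
      exact (Subgroup.le_centralizer_iff.mp h1).trans (Subgroup.centralizer_le_normalizer _)
    have hK'X : K' ≤ Subgroup.normalizer ((Subgroup.zpowers y : Subgroup G) : Set G) := by
      have h1 : Subgroup.zpowers y ≤ Subgroup.centralizer ((K' ⊔ J') : Set G) :=
        (Subgroup.zpowers_le).mpr hyKJ
      have h2 : Subgroup.zpowers y ≤ Subgroup.centralizer (K' : Set G) :=
        h1.trans (Subgroup.centralizer_le (le_sup_left : (K' : Set G) ≤ (K' ⊔ J' : Set G)))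
      exact (Subgroup.le_centralizer_iff.mp h2).trans (Subgroup.centralizer_le_normalizer _)
    rw [hJdef] at hJX
    exact hK'L (hK'X.trans (hX _ hXloc hJX))
  -- counting
  have hc1 := Cfsg.Agent.H14.card_sup_mul_card_inf Z1' W' (hnorm Z1' W' hZ1'le hW'le)
  rw [hsup, hW2] at hc1
  have hc2 := Cfsg.Agent.H14.card_sup_mul_card_inf Z0 Z1' (hnorm Z0 Z1' hle hZ1'le)
  rw [hdisj, Subgroup.card_bot, mul_one] at hc2
  have hc3 : Nat.card ↥(Z0 ⊔ Z1') ≤ Nat.card ↥Z0' :=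
    Subgroup.card_le_of_le (sup_le hle hZ1'le)
  have hpos1 : 0 < Nat.card ↥(Z1' ⊓ W') := Nat.card_pos
  have hpos2 : 0 < Nat.card ↥Z1' := Nat.card_pos
  have hc4 : Nat.card ↥Z0' ≤ Nat.card ↥Z1' * 2 := by
    calc Nat.card ↥Z0' = Nat.card ↥Z0' * 1 := (mul_one _).symm
      _ ≤ Nat.card ↥Z0' * Nat.card ↥(Z1' ⊓ W') := Nat.mul_le_mul_left _ hpos1
      _ = Nat.card ↥Z1' * 2 := hc1
  have hZ0card : Nat.card ↥Z0 ≤ 2 := by
    have h5 : Nat.card ↥Z0 * Nat.card ↥Z1' ≤ 2 * Nat.card ↥Z1' := by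
      rw [← hc2]
      calc Nat.card ↥(Z0 ⊔ Z1') ≤ Nat.card ↥Z0' := hc3
        _ ≤ Nat.card ↥Z1' * 2 := hc4
        _ = 2 * Nat.card ↥Z1' := mul_comm _ _
    exact Nat.le_of_mul_le_mul_right h5 hpos2
  -- Z = Ω₁Z(S) ≤ Z0, Z ≠ ⊥
  have hSne : (S : Subgroup G) ≠ ⊥ := by
    intro h
    apply hT'str.2.1
    rw [eq_bot_iff, ← h]
    exact hT'S
  have hZne : omegaCenterOf (S : Subgroup G) ≠ ⊥ := omegaCenterOf_ne_bot26 S.isPGroup' hSne
  have hZle : omegaCenterOf (S : Subgroup G) ≤ Z0 := by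
    rw [hZ0def, hJdef]
    exact omegaCenterOf_le_omegaCenter_J _
  have hZcard : 2 ≤ Nat.card ↥(omegaCenterOf (S : Subgroup G)) := by
    by_contra hlt
    have h1 : Nat.card ↥(omegaCenterOf (S : Subgroup G)) = 1 := by
      have := Nat.card_pos (α := ↥(omegaCenterOf (S : Subgroup G)))
      omega
    exact hZne ((Subgroup.card_eq_one).mp h1)
  have hZeq : omegaCenterOf (S : Subgroup G) = Z0 :=
    Subgroup.eq_of_le_of_card_ge hZle (hZ0card.trans hZcard)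
  left
  rw [← hJdef, ← hZ0def]
  refine ⟨hZeq, ?_⟩
  have h6 : 2 ≤ Nat.card ↥Z0 := by rw [← hZeq]; exact hZcard
  omega

example : Cfsg.Agent.H64.Jz.StResA.{u} = (∀ {G : Type u} [Group G] [Finite G] (S : Sylow 2 G)
    (M K L T' K' L' : Subgroup G), Cfsg.Agent.H64.Jz.RCtx S M K L T' K' L' →
  maxElemAbelianOrder T' = maxElemAbelianOrder (S : Subgroup G) →
  Cfsg.Agent.H64.Jz.Concl S (S : Subgroup G) L) := rfl

end Cfsg.Agent.H26.Jz
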