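import Mathlib

set_option autoImplicit false

/-!
Two counting lemmas on the conjugation action on the Sylow `11`-subgroups (pieces for the groups of
order `7920`): an involution centralizing a Sylow `11`-subgroup `P` and acting as an even permutation on
`45` Sylow subgroups fixes only `P`, and a `2`-group normalizing `P` all of whose involutions are
conjugate into a subgroup of involutions with that property acts freely on the other Sylow subgroups.
-/

namespace Cfsg.Agent.H26.Ord7920

open Subgroup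

theorem fix_eq_of_involution {G : Type*} [Group G] [Finite G]
    (hfaith : ∀ g : G, (∀ Q : Sylow 11 G, g • Q = Q) → g = 1)
    (h45 : Nat.card (Sylow 11 G) = 45) (P : Sylow 11 G) (hP11 : Nat.card P = 11)
    (x : G) (hx : orderOf x = 2) (hxP : x ∈ centralizer ((P : Subgroup G) : Set G))
    (hsign : ∀ f : G →* ℤˣ, f x = 1) :
    ∀ Q : Sylow 11 G, x • Q = Q → Q = P := by
  classical
  have : Fact (Nat.Prime 11) := ⟨by norm_num⟩
  have : Fintype (Sylow 11 G) := Fintype.ofFinite _
  have hxx : x * x = 1 := by rw [← pow_two, ← hx, pow_orderOf_eq_one]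
  have hx1 : x ≠ 1 := by
    intro h
    rw [h, orderOf_one] at hx
    omega
  have hPfix : x • P = P := by
    rw [Sylow.smul_eq_iff_mem_normalizer]
    exact Subgroup.centralizer_le_normalizer _ hxP
  let Fx : SubMulAction (↥(P : Subgroup G)) (Sylow 11 G) :=
    { carrier := {Q | x • Q = Q}
      smul_mem' := by
        intro y Q hQ
        show x • (y • Q) = y • Q
        have hc : (y : G) * x = x * (y : G) := hxP (y : G) y.2
        have e : y • Q = (y : G) • Q := rfl
        rw [e, smul_smul, ← hc, ← smul_smul, (hQ : x • Q = Q)] }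
  have hmod : Nat.card Fx ≡ Nat.card (MulAction.fixedPoints (↥(P : Subgroup G)) Fx) [MOD 11] :=
    P.isPGroup'.card_modEq_card_fixedPoints Fx
  have hone : Nat.card (MulAction.fixedPoints (↥(P : Subgroup G)) Fx) = 1 := by
    rw [Nat.card_eq_one_iff_unique]
    have hall : ∀ a : Fx, a ∈ MulAction.fixedPoints (↥(P : Subgroup G)) Fx →
        (a : Sylow 11 G) = P := by
      intro a ha
      have h1 : (a : Sylow 11 G) ∈ MulAction.fixedPoints (↥(P : Subgroup G)) (Sylow 11 G) := by
        intro y
        have := ha y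
        exact congrArg Subtype.val this
      rw [P.isPGroup'.sylow_mem_fixedPoints_iff] at h1
      exact Sylow.ext (P.is_maximal' (a : Sylow 11 G).isPGroup' h1)
    refine ⟨⟨fun a b => ?_⟩, ⟨⟨⟨P, hPfix⟩, ?_⟩⟩⟩
    · exact Subtype.ext (Subtype.ext ((hall a.1 a.2).trans (hall b.1 b.2).symm))
    · intro y
      apply Subtype.ext
      show ((y : G) • P) = P
      rw [Sylow.smul_eq_iff_mem_normalizer]
      exact Subgroup.le_normalizer y.2
  let σ : Equiv.Perm (Sylow 11 G) := MulAction.toPermHom G (Sylow 11 G) x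
  have hσ2 : σ * σ = 1 := by
    show MulAction.toPermHom G (Sylow 11 G) x * MulAction.toPermHom G (Sylow 11 G) x = 1
    rw [← map_mul, hxx, map_one]
  have hσne : σ ≠ 1 := by
    intro h
    apply hx1
    apply hfaith
    intro Q
    have : σ Q = Q := by rw [h]; rfl
    exact this
  have hord : orderOf σ = 2 := orderOf_eq_prime (by rw [pow_two]; exact hσ2) hσne
  have hprime : (orderOf σ).Prime := by rw [hord]; exact Nat.prime_two
  obtain ⟨n, hn⟩ := Equiv.Perm.cycleType_prime_order hprime
  rw [hord] at hn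
  have hsum : σ.cycleType.sum = σ.support.card := Equiv.Perm.sum_cycleType σ
  rw [hn, Multiset.sum_replicate, smul_eq_mul] at hsum
  have hFx : Nat.card Fx = (σ.supportᶜ).card := by
    rw [← Nat.card_eq_finsetCard]
    refine Nat.card_congr (Equiv.subtypeEquivRight (fun Q => ?_))
    rw [Finset.mem_compl, Equiv.Perm.mem_support, not_not]
    exact Iff.rfl
  have hcompl : (σ.supportᶜ).card = 45 - σ.support.card := by
    rw [Finset.card_compl, ← Nat.card_eq_fintype_card, h45]
  have hle : σ.support.card ≤ 45 := by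
    rw [← h45, Nat.card_eq_fintype_card]; exact Finset.card_le_univ _
  have hs : (Equiv.Perm.sign.comp (MulAction.toPermHom G (Sylow 11 G))) x = 1 := hsign _
  have hs' : Equiv.Perm.sign σ = 1 := hs
  rw [Equiv.Perm.sign_of_cycleType, hn, Multiset.sum_replicate, Multiset.card_replicate,
    smul_eq_mul] at hs'
  have heven : Even (n + 1) := by
    by_contra hodd
    rw [Nat.not_even_iff_odd] at hodd
    have : Odd ((n + 1) * 2 + (n + 1)) := by
      rcases hodd with ⟨k, hk⟩
      exact ⟨3 * k + 1, by omega⟩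
    rw [this.neg_one_pow] at hs'
    exact absurd hs' (by decide)
  rw [hone, hFx, hcompl, ← hsum] at hmod
  rw [← hsum] at hle
  have hn22 : n + 1 = 22 := by
    rcases heven with ⟨k, hk⟩
    unfold Nat.ModEq at hmod
    omega
  intro Q hQ
  have hcard1 : Nat.card Fx = 1 := by rw [hFx, hcompl, ← hsum, hn22]
  rw [Nat.card_eq_one_iff_unique] at hcard1
  obtain ⟨hsub, -⟩ := hcard1
  have := hsub.elim (⟨Q, hQ⟩ : Fx) ⟨P, hPfix⟩
  exact congrArg Subtype.val this

theorem card_dvd_of_unique_fix {G : Type*} [Group G] [Finite G] (P : Sylow 11 G)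
    (S T : Subgroup G) (hTS : T ≤ S) (hSP : S ≤ normalizer ((P : Subgroup G) : Set G))
    (hS2 : IsPGroup 2 S)
    (hfix : ∀ x ∈ T, orderOf x = 2 → ∀ Q : Sylow 11 G, x • Q = Q → Q = P)
    (hconj : ∀ u ∈ S, u ∉ T → orderOf u = 2 → ∃ g : G, g * u * g⁻¹ ∈ T) :
    Nat.card S ∣ Nat.card (Sylow 11 G) - 1 := by
  classical
  have : Fact (Nat.Prime 11) := ⟨by norm_num⟩
  have : Fintype (Sylow 11 G) := Fintype.ofFinite _
  have hSfix : ∀ s ∈ S, s • P = P := fun s hs =>
    Sylow.smul_eq_iff_mem_normalizer.2 (hSP hs)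
  let X : SubMulAction (↥S) (Sylow 11 G) :=
    { carrier := {Q | Q ≠ P}
      smul_mem' := by
        intro s Q hQ hsQ
        apply hQ
        have e : s • Q = (s : G) • Q := rfl
        have h1 : (s : G) • Q = (s : G) • P := by
          rw [← e, hsQ, hSfix s s.2]
        exact smul_left_cancel _ h1 }
  -- an involution of `S` fixes only `P`
  have hinv : ∀ u ∈ S, orderOf u = 2 → ∀ Q : Sylow 11 G, u • Q = Q → Q = P := by
    intro u hu hu2 Q hQ
    by_cases huT : u ∈ T
    · exact hfix u huT hu2 Q hQ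
    · obtain ⟨g, hg⟩ := hconj u hu huT hu2
      have hv2 : orderOf (g * u * g⁻¹) = 2 := by
        have := (MulAut.conj g).orderOf_eq u
        rw [MulAut.conj_apply] at this
        rw [this, hu2]
      have e1 : (g * u * g⁻¹) • (g • Q) = g • Q := by
        rw [smul_smul, inv_mul_cancel_right, ← smul_smul, hQ]
      have e2 : (g * u * g⁻¹) • (g • P) = g • P := by
        rw [smul_smul, inv_mul_cancel_right, ← smul_smul, hSfix u hu]
      have h1 := hfix _ hg hv2 _ e1
      have h2 := hfix _ hg hv2 _ e2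
      exact smul_left_cancel g (h1.trans h2.symm)
  -- the action is free
  have hfree : ∀ b : X, MulAction.stabilizer (↥S) b = ⊥ := by
    intro b
    rw [eq_bot_iff]
    intro s hs
    rw [MulAction.mem_stabilizer_iff] at hs
    rw [Subgroup.mem_bot]
    by_contra hs1
    have hsQ : (s : G) • (b : Sylow 11 G) = b := congrArg Subtype.val hs
    obtain ⟨k, hk⟩ := (IsPGroup.iff_orderOf.1 hS2) s
    have hk0 : k ≠ 0 := by
      rintro rfl
      rw [pow_zero, orderOf_eq_one_iff] at hk
      exact hs1 hk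
    obtain ⟨j, rfl⟩ := Nat.exists_eq_succ_of_ne_zero hk0
    have hsG : orderOf (s : G) = 2 ^ (j + 1) := by rw [Subgroup.orderOf_coe, hk]
    have hu2 : orderOf ((s : G) ^ 2 ^ j) = 2 := by
      rw [orderOf_pow_of_dvd (by positivity) (by rw [hsG]; exact pow_dvd_pow 2 (Nat.le_succ j)),
        hsG, pow_succ, Nat.mul_div_cancel_left _ (by positivity)]
    have huS : (s : G) ^ 2 ^ j ∈ S := S.pow_mem s.2 _
    have hufix : ((s : G) ^ 2 ^ j) • (b : Sylow 11 G) = b := by
      have : ∀ m : ℕ, ((s : G) ^ m) • (b : Sylow 11 G) = b := by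
        intro m
        induction m with
        | zero => rw [pow_zero, one_smul]
        | succ m ih => rw [pow_succ, ← smul_smul, hsQ, ih]
      exact this _
    exact b.2 (hinv _ huS hu2 _ hufix)
  have e := MulAction.selfEquivOrbitsQuotientProd hfree
  have hcard : Nat.card X = Nat.card (Quotient (MulAction.orbitRel (↥S) X)) * Nat.card S := by
    rw [Nat.card_congr e, Nat.card_prod]
  have hX : Nat.card X = Nat.card (Sylow 11 G) - 1 := by
    rw [Nat.card_eq_fintype_card (α := Sylow 11 G), ← Finset.card_univ,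
      ← Finset.card_erase_of_mem (Finset.mem_univ P), ← Nat.card_eq_finsetCard]
    refine Nat.card_congr (Equiv.subtypeEquivRight (fun Q => ?_))
    rw [Finset.mem_erase]
    exact ⟨fun h => ⟨h, Finset.mem_univ Q⟩, fun h => h.1⟩
  rw [← hX, hcard]
  exact Dvd.intro_left _ rfl

end Cfsg.Agent.H26.Ord7920

section verify
open Subgroup

example {G : Type*} [Group G] [Finite G]
    (hfaith : ∀ g : G, (∀ Q : Sylow 11 G, g • Q = Q) → g = 1)
    (h45 : Nat.card (Sylow 11 G) = 45) (P : Sylow 11 G) (hP11 : Nat.card P = 11)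
    (x : G) (hx : orderOf x = 2) (hxP : x ∈ centralizer ((P : Subgroup G) : Set G))
    (hsign : ∀ f : G →* ℤˣ, f x = 1) :
    ∀ Q : Sylow 11 G, x • Q = Q → Q = P :=
  Cfsg.Agent.H26.Ord7920.fix_eq_of_involution hfaith h45 P hP11 x hx hxP hsign

example {G : Type*} [Group G] [Finite G] (P : Sylow 11 G)
    (S T : Subgroup G) (hTS : T ≤ S) (hSP : S ≤ normalizer ((P : Subgroup G) : Set G))
    (hS2 : IsPGroup 2 S)
    (hfix : ∀ x ∈ T, orderOf x = 2 → ∀ Q : Sylow 11 G, x • Q = Q → Q = P)
    (hconj : ∀ u ∈ S, u ∉ T → orderOf u = 2 → ∃ g : G, g * u * g⁻¹ ∈ T) :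
    Nat.card S ∣ Nat.card (Sylow 11 G) - 1 :=
  Cfsg.Agent.H26.Ord7920.card_dvd_of_unique_fix P S T hTS hSP hS2 hfix hconj

end verify

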